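import Mathlib
import Cfsg.Agent.Lib.Classical.SympMinDeg.Basic

/-!
# Elements of the symplectic group used for the Weil characters

The Levi elements, the coordinate swaps and their relations with the Siegel radical.
-/

set_option autoImplicit false
set_option linter.unusedSectionVars false

namespace Cfsg.Agent.SimpleFacts.WeilChar

open Matrix
open Cfsg.Agent.Forms.SympStd
open Cfsg.Agent.Classical.SympMinDeg

variable {F : Type*} [Field F] {n : ℕ}

local notation "Pt" => (Fin n → F)
local notation "Vec" => (Fin n ⊕ Fin n → F)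
local notation "Sp" => Matrix.symplecticGroup (Fin n) F
local notation "MatV" => Matrix (Fin n ⊕ Fin n) (Fin n ⊕ Fin n) F
local notation "GLn" => (Matrix (Fin n) (Fin n) F)ˣ

/-- The block matrix of a Levi element. -/
theorem levMat_mem (P : GLn) :
    Matrix.fromBlocks (P : Matrix (Fin n) (Fin n) F) 0 0 ((↑P⁻¹ : Matrix (Fin n) (Fin n) F))ᵀ ∈
      Matrix.symplecticGroup (Fin n) F := by
  rw [SymplecticGroup.mem_iff, Matrix.J, Matrix.fromBlocks_transpose, Matrix.fromBlocks_multiply,
    Matrix.fromBlocks_multiply]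
  simp [← Matrix.transpose_mul]

/-- The Levi elements. -/
def lev : GLn →* Sp where
  toFun P := ⟨_, levMat_mem P⟩
  map_one' := Subtype.ext (by simp)
  map_mul' P Q := Subtype.ext (by
    show Matrix.fromBlocks _ _ _ _ = Matrix.fromBlocks _ _ _ _ * Matrix.fromBlocks _ _ _ _
    rw [Matrix.fromBlocks_multiply]
    simp [← Matrix.transpose_mul])

theorem coe_lev (P : GLn) : ((lev P : Sp) : MatV) =
    Matrix.fromBlocks (P : Matrix (Fin n) (Fin n) F) 0 0 ((↑P⁻¹ : Matrix (Fin n) (Fin n) F))ᵀ := rfl

theorem lev_sRad (P : GLn) (S : symm F n) :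
    lev P * sRad S = sRad (adP (P : Matrix (Fin n) (Fin n) F) S) * lev P := by
  refine Subtype.ext ?_
  show Matrix.fromBlocks _ _ _ _ * Matrix.fromBlocks _ _ _ _ =
    Matrix.fromBlocks (1 : Matrix (Fin n) (Fin n) F)
      ((P : Matrix (Fin n) (Fin n) F) * (S : Matrix (Fin n) (Fin n) F) * (P : Matrix (Fin n) (Fin n) F)ᵀ)
      0 1 * Matrix.fromBlocks _ _ _ _
  rw [Matrix.fromBlocks_multiply, Matrix.fromBlocks_multiply]
  simp [Matrix.mul_assoc, ← Matrix.transpose_mul]

/-- The action on the labels of the characters of the radical. -/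
def act (P : GLn) (a : Pt) : Pt := ((↑P⁻¹ : Matrix (Fin n) (Fin n) F))ᵀ *ᵥ a

theorem act_one (a : Pt) : act (1 : GLn) a = a := by simp [act]

theorem act_mul (P Q : GLn) (a : Pt) : act (P * Q) a = act P (act Q a) := by
  simp [act, Matrix.mulVec_mulVec, ← Matrix.transpose_mul]

theorem act_neg (P : GLn) (a : Pt) : act P (-a) = -act P a := by simp [act, Matrix.mulVec_neg]

theorem transpose_act (P : GLn) (a : Pt) : (P : Matrix (Fin n) (Fin n) F)ᵀ *ᵥ act P a = a := by
  rw [act, Matrix.mulVec_mulVec, ← Matrix.transpose_mul, Units.inv_mul, Matrix.transpose_one,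
    Matrix.one_mulVec]

theorem act_eq_iff (P : GLn) (a b : Pt) :
    act P a = b ↔ (P : Matrix (Fin n) (Fin n) F)ᵀ *ᵥ b = a := by
  constructor
  · rintro rfl
    exact transpose_act P a
  · rintro rfl
    rw [act, Matrix.mulVec_mulVec, ← Matrix.transpose_mul, Units.mul_inv, Matrix.transpose_one,
      Matrix.one_mulVec]

/-! ### Swaps -/

/-- The matrix exchanging the two coordinates with index `j`. -/
def swpMat (j : Fin n) : MatV :=
  Matrix.fromBlocks (Matrix.diagonal (Function.update (1 : Pt) j 0))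
    (Matrix.diagonal (Pi.single j 1)) (Matrix.diagonal (Pi.single j (-1)))
    (Matrix.diagonal (Function.update (1 : Pt) j 0))

theorem swpMat_inl (j : Fin n) (v : Vec) (k : Fin n) :
    (swpMat j *ᵥ v) (Sum.inl k) = if k = j then v (Sum.inr j) else v (Sum.inl k) := by
  rw [swpMat, Matrix.fromBlocks_mulVec, Sum.elim_inl, Pi.add_apply, Matrix.mulVec_diagonal,
    Matrix.mulVec_diagonal]
  by_cases h : k = j <;> simp [h]

theorem swpMat_inr (j : Fin n) (v : Vec) (k : Fin n) :
    (swpMat j *ᵥ v) (Sum.inr k) = if k = j then -v (Sum.inl j) else v (Sum.inr k) := by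
  rw [swpMat, Matrix.fromBlocks_mulVec, Sum.elim_inr, Pi.add_apply, Matrix.mulVec_diagonal,
    Matrix.mulVec_diagonal]
  by_cases h : k = j <;> simp [h]

theorem swpMat_mem (j : Fin n) : swpMat j ∈ Matrix.symplecticGroup (Fin n) F := by
  rw [mem_sp_iff]
  intro u v
  rw [sympForm_eq, sympForm_eq]
  refine Finset.sum_congr rfl fun k _ => ?_
  rw [swpMat_inl, swpMat_inl, swpMat_inr, swpMat_inr]
  by_cases h : k = j
  · subst h
    simp only [if_true]
    ring
  · simp only [if_neg h]

/-- The swaps. -/
def swp (j : Fin n) : Sp := ⟨swpMat j, swpMat_mem j⟩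

theorem coe_swp (j : Fin n) : ((swp j : Sp) : MatV) = swpMat j := rfl

theorem lev_inl (P : GLn) (v : Vec) (k : Fin n) :
    ((lev P : Sp) : MatV).mulVec v (Sum.inl k) = ((P : Matrix (Fin n) (Fin n) F) *ᵥ (v ∘ Sum.inl)) k := by
  simp [coe_lev, Matrix.fromBlocks_mulVec]

theorem lev_inr (P : GLn) (v : Vec) (k : Fin n) :
    ((lev P : Sp) : MatV).mulVec v (Sum.inr k) =
      (((↑P⁻¹ : Matrix (Fin n) (Fin n) F))ᵀ *ᵥ (v ∘ Sum.inr)) k := by
  simp [coe_lev, Matrix.fromBlocks_mulVec]

theorem sRad_inl (S : symm F n) (v : Vec) (k : Fin n) :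
    ((sRad S : Sp) : MatV).mulVec v (Sum.inl k) =
      v (Sum.inl k) + ((S : Matrix (Fin n) (Fin n) F) *ᵥ (v ∘ Sum.inr)) k := by
  show (Matrix.fromBlocks (1 : Matrix (Fin n) (Fin n) F) (S : Matrix (Fin n) (Fin n) F) 0 1 *ᵥ v) _ = _
  simp [Matrix.fromBlocks_mulVec]

theorem sRad_inr (S : symm F n) (v : Vec) (k : Fin n) :
    ((sRad S : Sp) : MatV).mulVec v (Sum.inr k) = v (Sum.inr k) := by
  show (Matrix.fromBlocks (1 : Matrix (Fin n) (Fin n) F) (S : Matrix (Fin n) (Fin n) F) 0 1 *ᵥ v) _ = _
  simp [Matrix.fromBlocks_mulVec]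

theorem swp_sRad (j : Fin n) (S : symm F n)
    (hS : ∀ k, (S : Matrix (Fin n) (Fin n) F) j k = 0) :
    (swp j : Sp) * sRad S = sRad S * swp j := by
  have hS' : ∀ k, (S : Matrix (Fin n) (Fin n) F) k j = 0 := fun k => by
    rw [← Matrix.transpose_apply (S : Matrix (Fin n) (Fin n) F),
      (S.2 : (S : Matrix (Fin n) (Fin n) F)ᵀ = S), hS]
  refine sp_ext fun v => funext fun r => ?_
  rw [mul_mulVec_sp, mul_mulVec_sp]
  rcases r with k | k
  · rw [coe_swp, swpMat_inl, sRad_inl, sRad_inr, sRad_inl, swpMat_inl]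
    by_cases h : k = j
    · subst h
      simp [Matrix.mulVec, dotProduct, hS]
    · rw [if_neg h, if_neg h]
      congr 1
      simp only [Matrix.mulVec, dotProduct, Function.comp_apply]
      refine Finset.sum_congr rfl fun l _ => ?_
      by_cases hl : l = j
      · subst hl; simp [hS']
      · have := swpMat_inr j v l
        rw [if_neg hl] at this
        simp only [Matrix.mulVec, dotProduct] at this
        rw [this]
  · rw [coe_swp, swpMat_inr, sRad_inr, sRad_inr, swpMat_inr, sRad_inl]
    by_cases h : k = j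
    · subst h
      simp [Matrix.mulVec, dotProduct, hS]
    · rw [if_neg h, if_neg h]

theorem swp_comm (i j : Fin n) : (swp i : Sp) * swp j = swp j * swp i := by
  refine sp_ext fun v => funext fun r => ?_
  rw [mul_mulVec_sp, mul_mulVec_sp]
  rcases eq_or_ne i j with rfl | hij
  · rfl
  rcases r with k | k
  · simp only [coe_swp, swpMat_inl, swpMat_inr]
    split_ifs <;> simp_all
  · simp only [coe_swp, swpMat_inl, swpMat_inr]
    split_ifs <;> simp_all

/-- Diagonal units. -/
def diagU (d : Fin n → Fˣ) : GLn where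
  val := Matrix.diagonal fun k => (d k : F)
  inv := Matrix.diagonal fun k => ((d k)⁻¹ : Fˣ)
  val_inv := by rw [Matrix.diagonal_mul_diagonal]; simp
  inv_val := by rw [Matrix.diagonal_mul_diagonal]; simp

theorem coe_diagU (d : Fin n → Fˣ) :
    ((diagU d : GLn) : Matrix (Fin n) (Fin n) F) = Matrix.diagonal fun k => (d k : F) := rfl

theorem coe_diagU_inv (d : Fin n → Fˣ) :
    ((diagU d)⁻¹ : GLn).val = Matrix.diagonal fun k => (((d k)⁻¹ : Fˣ) : F) := rfl

theorem act_diagU (d : Fin n → Fˣ) (a : Pt) :
    act (diagU d) a = fun k => (((d k)⁻¹ : Fˣ) : F) * a k := by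
  funext k
  rw [act, coe_diagU_inv, Matrix.diagonal_transpose, Matrix.mulVec_diagonal]

theorem swp_sq (j : Fin n) :
    (swp j : Sp) * swp j = lev (diagU (Function.update 1 j (-1))) := by
  refine sp_ext fun v => funext fun r => ?_
  rw [mul_mulVec_sp]
  rcases r with k | k
  · rw [lev_inl, coe_diagU, Matrix.mulVec_diagonal, coe_swp, swpMat_inl]
    by_cases h : k = j
    · subst h; simp [swpMat_inr]
    · simp [swpMat_inl, h]
  · rw [lev_inr, coe_diagU_inv, Matrix.diagonal_transpose, Matrix.mulVec_diagonal, coe_swp, swpMat_inr]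
    by_cases h : k = j
    · subst h; simp [swpMat_inl]
    · simp [swpMat_inr, h]

theorem swp_diagU (j : Fin n) (d : Fin n → Fˣ) :
    (swp j : Sp) * lev (diagU d) = lev (diagU (Function.update d j (d j)⁻¹)) * swp j := by
  refine sp_ext fun v => funext fun r => ?_
  rw [mul_mulVec_sp, mul_mulVec_sp]
  rcases r with k | k
  · rw [lev_inl, coe_diagU, Matrix.mulVec_diagonal, coe_swp, swpMat_inl, Function.comp_apply,
      swpMat_inl]
    by_cases h : k = j
    · subst h; simp [lev_inr, coe_diagU_inv, Matrix.diagonal_transpose, Matrix.mulVec_diagonal, -Matrix.coe_units_inv]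
    · simp [lev_inl, coe_diagU, Matrix.mulVec_diagonal, h]
  · rw [lev_inr, coe_diagU_inv, Matrix.diagonal_transpose, Matrix.mulVec_diagonal, coe_swp,
      swpMat_inr, Function.comp_apply, swpMat_inr]
    by_cases h : k = j
    · subst h; simp [lev_inl, coe_diagU, Matrix.mulVec_diagonal]
    · simp [lev_inr, coe_diagU_inv, Matrix.diagonal_transpose, Matrix.mulVec_diagonal, h, -Matrix.coe_units_inv]

/-- `1 + t e_i e_jᵀ` as a unit. -/
def tvU (i j : Fin n) (h : i ≠ j) (t : F) : GLn where
  val := Matrix.transvection i j t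
  inv := Matrix.transvection i j (-t)
  val_inv := by rw [Matrix.transvection_mul_transvection_same i j h]; simp
  inv_val := by rw [Matrix.transvection_mul_transvection_same i j h]; simp

theorem coe_tvU (i j : Fin n) (h : i ≠ j) (t : F) :
    ((tvU i j h t : GLn) : Matrix (Fin n) (Fin n) F) = Matrix.transvection i j t := rfl

theorem coe_tvU_inv (i j : Fin n) (h : i ≠ j) (t : F) :
    ((tvU i j h t)⁻¹ : GLn).val = Matrix.transvection i j (-t) := rfl

theorem transvection_mulVec (i j : Fin n) (t : F) (x : Pt) (k : Fin n) :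
    (Matrix.transvection i j t *ᵥ x) k = x k + if k = i then t * x j else 0 := by
  rw [Matrix.transvection, Matrix.add_mulVec, Matrix.one_mulVec, Pi.add_apply, Matrix.single_mulVec]
  simp [Function.update_apply]

theorem transvection_transpose (i j : Fin n) (t : F) :
    (Matrix.transvection i j t)ᵀ = Matrix.transvection j i t := by
  rw [Matrix.transvection, Matrix.transpose_add, Matrix.transpose_one, Matrix.transpose_single]
  rfl

theorem tvU_add (i j : Fin n) (h : i ≠ j) (s t : F) :
    tvU i j h (s + t) = tvU i j h s * tvU i j h t :=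
  Units.ext (Matrix.transvection_mul_transvection_same i j h s t).symm

/-- `act` of a transvection adds a multiple of one coordinate to another one. -/
theorem act_tvU (i j : Fin n) (h : i ≠ j) (t : F) (a : Pt) :
    act (tvU i j h t) a = Function.update a j (a j - t * a i) := by
  funext k
  rw [act, coe_tvU_inv, transvection_transpose, transvection_mulVec]
  by_cases hk : k = j
  · subst hk; simp; ring
  · simp [hk]

theorem swp_oEl (i j : Fin n) (h : i ≠ j) (t : F) :
    (swp j : Sp) * sRad (oEl t (Pi.single i 1) (Pi.single j 1)) =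
      lev (tvU i j h t) * swp j := by
  refine sp_ext fun v => funext fun r => ?_
  rw [mul_mulVec_sp, mul_mulVec_sp]
  have hS : ∀ x : Pt, (oEl t (Pi.single i 1) (Pi.single j 1) : Matrix (Fin n) (Fin n) F) *ᵥ x =
      Pi.single i (t * x j) + Pi.single j (t * x i) := by
    intro x
    rw [coe_oEl, Matrix.smul_mulVec, Matrix.add_mulVec, Matrix.vecMulVec_mulVec,
      Matrix.vecMulVec_mulVec]
    funext k
    simp [Pi.single_apply, mul_ite, mul_add]
  rcases r with k | k
  · rw [lev_inl, coe_tvU, transvection_mulVec, coe_swp, swpMat_inl, Function.comp_apply,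
      Function.comp_apply, swpMat_inl, swpMat_inl, sRad_inl, sRad_inr, hS]
    by_cases hk : k = j
    · subst hk; simp [h, h.symm]
    · by_cases hki : k = i
      · subst hki; simp [h, hk]
      · simp [hk, hki]
  · rw [lev_inr, coe_tvU_inv, transvection_transpose, transvection_mulVec, coe_swp, swpMat_inr,
      Function.comp_apply, Function.comp_apply, swpMat_inr, swpMat_inr, sRad_inr, sRad_inl, hS]
    by_cases hk : k = j
    · subst hk; simp [h, h.symm]; ring
    · simp [hk, h]

theorem rEl_mulVec (j : Fin n) (d : F) (x : Pt) :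
    (rEl d (Pi.single j 1) : Matrix (Fin n) (Fin n) F) *ᵥ x = Pi.single j (d * x j) := by
  rw [coe_rEl, Matrix.smul_mulVec, Matrix.vecMulVec_mulVec]
  funext k
  simp [Pi.single_apply, mul_ite]

/-- The relation in the group `SL₂` of the index `j`. -/
theorem swp_relation (j : Fin n) (d : Fˣ) :
    sRad (rEl (d : F) (Pi.single j 1)) * swp j * sRad (rEl ((d⁻¹ : Fˣ) : F) (Pi.single j 1)) =
      lev (diagU (Function.update 1 j d)) * swp j * sRad (rEl (-(d : F)) (Pi.single j 1)) *
        (swp j : Sp) := by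
  refine sp_ext fun v => funext fun r => ?_
  simp only [mul_mulVec_sp]
  rcases r with k | k
  · simp only [sRad_inl, sRad_inr, lev_inl, coe_diagU, Matrix.mulVec_diagonal, coe_swp, swpMat_inl,
      swpMat_inr, rEl_mulVec, Function.comp_apply, if_true, Pi.single_eq_same]
    by_cases hk : k = j
    · subst hk
      simp
      field_simp
      ring
    · simp [hk]
  · simp only [sRad_inl, sRad_inr, lev_inr, coe_diagU_inv, Matrix.diagonal_transpose,
      Matrix.mulVec_diagonal, coe_swp, swpMat_inl,
      swpMat_inr, rEl_mulVec, Function.comp_apply, if_true, Pi.single_eq_same]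
    by_cases hk : k = j
    · subst hk
      simp
      field_simp
      ring
    · simp [hk]

end Cfsg.Agent.SimpleFacts.WeilChar
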