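import Mathlib
import Cfsg.Agent.SimpleFacts.WeilChar.Elements

/-!
# Weight spaces of the Siegel radical and their labels
-/

set_option autoImplicit false
set_option linter.unusedSectionVars false

namespace Cfsg.Agent.SimpleFacts.WeilChar

open Matrix
open Cfsg.Agent.Classical.SympMinDeg

variable {F : Type*} [Field F] {n : ℕ}

local notation "Pt" => (Fin n → F)
local notation "Sp" => Matrix.symplecticGroup (Fin n) F
local notation "GLn" => (Matrix (Fin n) (Fin n) F)ˣ
local notation "Ch" => AddChar (symm F n) ℂ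

noncomputable instance symmFintype [Fintype F] : Fintype (symm F n) :=
  have : Finite (symm F n) := inferInstanceAs (Finite {S : Matrix (Fin n) (Fin n) F // S ∈ symm F n})
  Fintype.ofFinite _

section Labels

variable (ψ : AddChar F ℂ)

/-- The character `S ↦ ψ (c aᵀ S a)`. -/
def wchar (c : F) (a : Pt) : Ch where
  toFun S := ψ (c * (a ⬝ᵥ ((S : Matrix (Fin n) (Fin n) F) *ᵥ a)))
  map_zero_eq_one' := by simp
  map_add_eq_mul' S T := by
    rw [AddSubgroup.coe_add, Matrix.add_mulVec, dotProduct_add, mul_add, AddChar.map_add_eq_mul]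

theorem wchar_apply (c : F) (a : Pt) (S : symm F n) :
    wchar ψ c a S = ψ (c * (a ⬝ᵥ ((S : Matrix (Fin n) (Fin n) F) *ᵥ a))) := rfl

theorem wchar_zero (c : F) : wchar ψ c (0 : Pt) = 1 :=
  DFunLike.ext _ _ fun S => by simp [wchar_apply]

theorem wchar_neg (c : F) (a : Pt) : wchar ψ c (-a) = wchar ψ c a :=
  DFunLike.ext _ _ fun S => by simp [wchar_apply, Matrix.mulVec_neg]

theorem wchar_smul (c t : F) (a : Pt) : wchar ψ c (t • a) = wchar ψ (c * t ^ 2) a :=
  DFunLike.ext _ _ fun S => by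
    simp only [wchar_apply, Matrix.mulVec_smul, dotProduct_smul, smul_dotProduct, smul_eq_mul]
    congr 1
    ring

theorem wchar_rEl (c : F) (a b : Pt) (κ : F) :
    wchar ψ c a (rEl κ b) = ψ (c * (a ⬝ᵥ b) ^ 2 * κ) := by
  rw [wchar_apply, coe_rEl, Matrix.smul_mulVec, Matrix.vecMulVec_mulVec, dotProduct_smul,
    dotProduct_smul]
  congr 1
  simp [dotProduct_comm b a]
  ring

theorem wchar_oEl (c : F) (a b d : Pt) (t : F) :
    wchar ψ c a (oEl t b d) = ψ (2 * c * (a ⬝ᵥ b) * (a ⬝ᵥ d) * t) := by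
  rw [wchar_apply, coe_oEl, Matrix.smul_mulVec, Matrix.add_mulVec, Matrix.vecMulVec_mulVec,
    Matrix.vecMulVec_mulVec, dotProduct_smul, dotProduct_add, dotProduct_smul, dotProduct_smul]
  congr 1
  simp [dotProduct_comm b a, dotProduct_comm d a]
  ring

theorem wchar_comp (c : F) (a : Pt) (P : Matrix (Fin n) (Fin n) F) :
    (wchar ψ c a).compAddMonoidHom (adP P) = wchar ψ c (Pᵀ *ᵥ a) := by
  refine DFunLike.ext _ _ fun S => ?_
  rw [AddChar.compAddMonoidHom_apply, wchar_apply, wchar_apply]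
  show ψ (c * (a ⬝ᵥ ((P * (S : Matrix (Fin n) (Fin n) F) * Pᵀ) *ᵥ a))) = _
  rw [← Matrix.mulVec_mulVec, ← Matrix.mulVec_mulVec, Matrix.dotProduct_mulVec a P,
    Matrix.mulVec_transpose]

theorem char_ext {χ χ' : Ch} (h : ∀ b κ, χ (rEl κ b) = χ' (rEl κ b)) : χ = χ' := by
  refine DFunLike.ext _ _ fun S => ?_
  have hO : ∀ t (b d : Pt), χ (oEl t b d) = χ' (oEl t b d) := by
    intro t b d
    have h1 := h (b + d) t
    rw [rEl_add_vec, AddChar.map_add_eq_mul, AddChar.map_add_eq_mul, AddChar.map_add_eq_mul,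
      AddChar.map_add_eq_mul, h, h] at h1
    exact mul_left_cancel₀ (mul_ne_zero (AddChar.val_isUnit χ' _).ne_zero
      (AddChar.val_isUnit χ' _).ne_zero) h1
  rw [symm_decomp S, AddChar.map_add_eq_mul, AddChar.map_add_eq_mul]
  simp only [Cfsg.Agent.KnownSimple.CrossCharDegree.map_sum_prod, h]
  congr 1
  refine Finset.prod_congr rfl fun i _ => Finset.prod_congr rfl fun j _ => ?_
  split_ifs
  · exact hO _ _ _
  · simp

variable [Fintype F] {ψ}

theorem shift_inj (hψ : ψ ≠ 1) {x y : F} (h : ∀ t, ψ (x * t) = ψ (y * t)) : x = y :=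
  (mulShift_bijective hψ).1 (DFunLike.ext _ _ fun t => by simpa [AddChar.mulShift_apply] using h t)

theorem exists_ne_shift (hψ : ψ ≠ 1) {x : F} (hx : x ≠ 0) : ∃ t, ψ (x * t) ≠ 1 := by
  by_contra h
  push Not at h
  exact hx (shift_inj hψ fun t => by rw [h, zero_mul, AddChar.map_zero_eq_one])

theorem wchar_eq_iff (hψ : ψ ≠ 1) (h2 : (2 : F) ≠ 0) {c c' : F} {a a' : Pt} :
    wchar ψ c a = wchar ψ c' a' ↔ ∀ k l, c * a k * a l = c' * a' k * a' l := by
  constructor
  · intro h k l
    have h1 := shift_inj hψ (x := 2 * c * (a ⬝ᵥ Pi.single k 1) * (a ⬝ᵥ Pi.single l 1))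
      (y := 2 * c' * (a' ⬝ᵥ Pi.single k 1) * (a' ⬝ᵥ Pi.single l 1)) fun t => by
        rw [← wchar_oEl, ← wchar_oEl, h]
    simp only [dotProduct_single, mul_one] at h1
    exact mul_left_cancel₀ h2 (by linear_combination h1)
  · intro h
    refine DFunLike.ext _ _ fun S => ?_
    rw [wchar_apply, wchar_apply]
    congr 1
    simp only [dotProduct, Matrix.mulVec, Finset.mul_sum]
    refine Finset.sum_congr rfl fun k _ => Finset.sum_congr rfl fun l _ => ?_
    linear_combination (S : Matrix (Fin n) (Fin n) F) k l * h k l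

theorem eq_or_neg_of_wchar_eq (hψ : ψ ≠ 1) (h2 : (2 : F) ≠ 0) {c : F} (hc : c ≠ 0) {a a' : Pt}
    (h : wchar ψ c a = wchar ψ c a') : a = a' ∨ a = -a' := by
  have h1 := (wchar_eq_iff hψ h2).1 h
  have hprod : ∀ k l, a k * a l = a' k * a' l := fun k l =>
    mul_left_cancel₀ hc (by linear_combination h1 k l)
  by_cases ha : a' = 0
  · refine Or.inl ?_
    funext k
    have := hprod k k
    rw [ha] at this ⊢
    simpa using this
  obtain ⟨i, hi⟩ := Function.ne_iff.1 ha
  rw [Pi.zero_apply] at hi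
  have hai : a i ≠ 0 := fun h0 => mul_self_ne_zero.2 hi (by rw [← hprod i i, h0, zero_mul])
  rcases mul_self_eq_mul_self_iff.1 (hprod i i) with e | e
  · refine Or.inl (funext fun k => mul_left_cancel₀ hai ?_)
    rw [hprod i k, e]
  · refine Or.inr (funext fun k => mul_left_cancel₀ hai ?_)
    rw [hprod i k, Pi.neg_apply, e]
    ring

end Labels

section Spaces

variable {V : Type*} [AddCommGroup V] [Module ℂ V]
  (ρ : Representation ℂ (Matrix.symplecticGroup (Fin n) F) V)

/-- A weight space. -/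
def Wt (χ : Ch) : Submodule ℂ V where
  carrier := {v | ∀ S, ρ (sRad S) v = χ S • v}
  zero_mem' S := by simp
  add_mem' {v w} hv hw S := by rw [map_add, hv S, hw S, smul_add]
  smul_mem' t v hv S := by rw [map_smul, hv S, smul_comm]

theorem mem_Wt {χ : Ch} {v : V} : v ∈ Wt ρ χ ↔ ∀ S, ρ (sRad S) v = χ S • v := Iff.rfl

theorem pi_mul (g h : Sp) (v : V) : ρ (g * h) v = ρ g (ρ h v) := by
  rw [map_mul]; rfl

theorem pi_inv_left (g : Sp) (v : V) : ρ g⁻¹ (ρ g v) = v := by
  rw [← pi_mul, inv_mul_cancel, map_one]; rfl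

theorem pi_inv_right (g : Sp) (v : V) : ρ g (ρ g⁻¹ v) = v := by
  rw [← pi_mul, mul_inv_cancel, map_one]; rfl

theorem lev_mem_Wt (ψ : AddChar F ℂ) {c : F} {a : Pt} {v : V} (hv : v ∈ Wt ρ (wchar ψ c a))
    (P : GLn) : ρ (lev P) v ∈ Wt ρ (wchar ψ c (act P a)) := by
  intro S
  have e : sRad S * lev P =
      lev P * sRad (adP ((↑P⁻¹ : Matrix (Fin n) (Fin n) F)) S) := by
    rw [lev_sRad]
    congr 2
    refine Subtype.ext ?_
    show _ = (P : Matrix (Fin n) (Fin n) F) * ((↑P⁻¹ : Matrix (Fin n) (Fin n) F) *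
      (S : Matrix (Fin n) (Fin n) F) * (↑P⁻¹ : Matrix (Fin n) (Fin n) F)ᵀ) *
        (P : Matrix (Fin n) (Fin n) F)ᵀ
    simp [Matrix.mul_assoc, ← Matrix.transpose_mul]
  rw [← pi_mul, e, pi_mul, hv, map_smul]
  congr 1
  exact DFunLike.congr_fun (wchar_comp ψ c a _) S

variable [Fintype F]

/-- The projection to a weight space. -/
noncomputable def proj (χ : Ch) : Module.End ℂ V :=
  (Fintype.card (symm F n) : ℂ)⁻¹ • ∑ S : symm F n, χ (-S) • ρ (sRad S)

theorem proj_apply (χ : Ch) (v : V) :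
    proj ρ χ v = (Fintype.card (symm F n) : ℂ)⁻¹ • ∑ S : symm F n, χ (-S) • ρ (sRad S) v := by
  simp [proj, LinearMap.sum_apply]

theorem proj_mem (χ : Ch) (v : V) : proj ρ χ v ∈ Wt ρ χ := by
  intro T
  rw [proj_apply, map_smul, map_sum, smul_comm (χ T)]
  congr 1
  rw [Finset.smul_sum]
  refine Fintype.sum_equiv (Equiv.addLeft T) _ _ fun S => ?_
  rw [map_smul, Equiv.coe_addLeft, ← pi_mul, ← sRad_add, smul_smul, ← AddChar.map_add_eq_mul]
  congr 2
  simp only [neg_add_rev]
  rw [add_comm (-S) (-T), ← add_assoc, add_neg_cancel, zero_add]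

theorem proj_of_mem {χ χ' : Ch} [Decidable (χ' = χ)] {v : V} (hv : v ∈ Wt ρ χ) :
    proj ρ χ' v = if χ' = χ then v else 0 := by
  rw [proj_apply, Finset.sum_congr rfl fun S _ => by rw [hv S, smul_smul], ← Finset.sum_smul]
  split_ifs with h
  · subst h
    have : ∀ S : symm F n, χ' (-S) * χ' S = 1 := fun S => by
      rw [← AddChar.map_add_eq_mul, neg_add_cancel, AddChar.map_zero_eq_one]
    simp only [this, Finset.sum_const, Finset.card_univ, nsmul_eq_mul, mul_one, smul_smul]
    rw [inv_mul_cancel₀ (Nat.cast_ne_zero.2 Fintype.card_ne_zero), one_smul]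
  · classical
    have h0 : ∑ S : symm F n, χ' (-S) * χ S = 0 := by
      have := AddChar.sum_eq_ite (χ'⁻¹ * χ)
      rw [if_neg] at this
      · simpa [AddChar.mul_apply, AddChar.inv_apply] using this
      · intro e
        apply h
        rw [← AddChar.one_eq_zero] at e
        exact inv_mul_eq_one.1 e
    rw [h0, zero_smul, smul_zero]

theorem sum_proj (v : V) : ∑ χ : Ch, proj ρ χ v = v := by
  classical
  simp only [proj_apply, ← Finset.smul_sum]
  rw [Finset.sum_comm, Finset.sum_eq_single (0 : symm F n)]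
  · simp only [neg_zero, AddChar.map_zero_eq_one, sRad_zero, map_one, Module.End.one_apply,
      one_smul, Finset.sum_const, Finset.card_univ, AddChar.card_eq]
    rw [← Nat.cast_smul_eq_nsmul ℂ, smul_smul,
      inv_mul_cancel₀ (Nat.cast_ne_zero.2 Fintype.card_ne_zero), one_smul]
  · intro S _ hS
    rw [← Finset.sum_smul, AddChar.sum_apply_eq_ite, if_neg (neg_ne_zero.2 hS), zero_smul]
  · simp

theorem proj_comm {g : Sp} (hg : ∀ S : symm F n, g * sRad S = sRad S * g) (χ : Ch) (v : V) :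
    proj ρ χ (ρ g v) = ρ g (proj ρ χ v) := by
  simp only [proj_apply, map_smul, map_sum, ← pi_mul, hg]

theorem exists_proj_ne {v : V} (hv : v ≠ 0) : ∃ χ, proj ρ χ v ≠ 0 := by
  by_contra h
  push Not at h
  exact hv (by rw [← sum_proj ρ v, Finset.sum_eq_zero fun χ _ => h χ])

/-- All the characters of the radical that occur are labelled by vectors. -/
def RankOne (ψ : AddChar F ℂ) : Prop :=
  ∀ (χ : Ch) (v : V), v ≠ 0 → v ∈ Wt ρ χ → ∃ (c : F) (a : Pt), χ = wchar ψ c a

end Spaces

/-- Components of an element of an invariant subspace lie in it, if a family of operators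
separates them. -/
theorem comp_mem {V : Type*} [AddCommGroup V] [Module ℂ V] {ι β : Type*} (L : Submodule ℂ V)
    (T : ι → Module.End ℂ V) (hT : ∀ k, ∀ x ∈ L, T k x ∈ L) (e : β → ι → ℂ) :
    ∀ (s : Finset β) (v : β → V), (∀ x ∈ s, ∀ k, T k (v x) = e x k • v x) →
      (∀ x ∈ s, ∀ y ∈ s, x ≠ y → ∃ k, e x k ≠ e y k) → ∑ x ∈ s, v x ∈ L → ∀ x ∈ s, v x ∈ L := by
  classical
  intro s
  induction s using Finset.induction_on with
  | empty => intro v _ _ _ x hx; simp at hx
  | insert a s ha ih =>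
    intro v hv hsep hsum
    rw [Finset.sum_insert ha] at hsum
    have hrest : ∀ x ∈ s, v x ∈ L := by
      intro x hx
      obtain ⟨k, hk⟩ := hsep x (Finset.mem_insert_of_mem hx) a (Finset.mem_insert_self a s)
        (fun h => ha (h ▸ hx))
      have h1 : ∑ y ∈ s, (e y k - e a k) • v y ∈ L := by
        have h2 := L.sub_mem (hT k _ hsum) (L.smul_mem (e a k) hsum)
        rw [map_add, map_sum, hv a (Finset.mem_insert_self a s), smul_add, Finset.smul_sum,
          Finset.sum_congr rfl fun y hy => hv y (Finset.mem_insert_of_mem hy) k] at h2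
        rw [add_sub_add_left_eq_sub, ← Finset.sum_sub_distrib] at h2
        simpa only [sub_smul] using h2
      have h3 := ih (fun y => (e y k - e a k) • v y)
        (fun y hy k' => by rw [map_smul, hv y (Finset.mem_insert_of_mem hy), smul_comm])
        (fun y hy z hz => hsep y (Finset.mem_insert_of_mem hy) z (Finset.mem_insert_of_mem hz))
        h1 x hx
      exact (L.smul_mem_iff (sub_ne_zero.2 hk)).1 h3
    intro x hx
    rcases Finset.mem_insert.1 hx with rfl | hx
    · simpa using L.sub_mem hsum (L.sum_mem hrest)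
    · exact hrest x hx

end Cfsg.Agent.SimpleFacts.WeilChar
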