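import Mathlib
import Cfsg.Agent.Lib.Classical.SympMinDeg.Orbit
import Cfsg.Agent.SimpleFacts.WeilChar.Weights

/-!
# Congruence classes of quadratic forms with a non-zero minor of order two

Over a field of odd order `q` such a form in `n` variables has at least
`(q^n - 1)(q^n - q)/(2(q + 1))` congruent forms.
-/

set_option autoImplicit false
set_option linter.unusedSectionVars false

namespace Cfsg.Agent.SimpleFacts.WeilChar.Forms

open Cfsg.Agent.Classical.SympMinDeg
open Module QuadraticMap
open scoped Matrix

variable {F : Type*} [Field F] [Fintype F] (h2 : (2 : F) ≠ 0)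

section

variable {V : Type*} [AddCommGroup V] [Module F V]

/-- The forms congruent to `Q`, as functions. -/
def Orb (n : ℕ) (Q : QuadraticForm F V) : Set ((Fin n → F) → F) :=
  Set.range fun e : (Fin n → F) ≃ₗ[F] V => fun b => Q (e b)

/-- Some minor of order two of the associated symmetric form is non-zero. -/
def Two (Q : QuadraticForm F V) : Prop :=
  ∃ x y, polar Q x x * polar Q y y - polar Q x y ^ 2 ≠ 0

theorem polar_self' (Q : QuadraticForm F V) (x : V) : polar Q x x = 2 * Q x := by
  rw [QuadraticMap.polar_self]; simp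

theorem polar_restrict (Q : QuadraticForm F V) (W : Submodule F V) (x y : W) :
    polar (Q.restrict W) x y = polar Q (x : V) (y : V) := rfl

include h2 in
theorem Two.exists_ne {Q : QuadraticForm F V} (hQ : Two Q) : ∃ v, Q v ≠ 0 := by
  by_contra h
  push Not at h
  obtain ⟨x, y, hxy⟩ := hQ
  exact hxy (by simp [QuadraticMap.polar, h])

include h2 in
/-- A form without such a minor is a multiple of the square of a linear form. -/
theorem eq_sq {Q : QuadraticForm F V} (hQ : ¬ Two Q) :
    ∃ (c : F) (l : V →ₗ[F] F), ∀ x, Q x = c * l x ^ 2 := by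
  by_cases h : ∃ v, Q v ≠ 0
  · obtain ⟨v, hv⟩ := h
    refine ⟨(4 * Q v)⁻¹, Q.polarBilin v, fun x => ?_⟩
    have h1 : polar Q v v * polar Q x x - polar Q v x ^ 2 = 0 :=
      not_not.1 fun hne => hQ ⟨v, x, hne⟩
    rw [polar_self', polar_self'] at h1
    have h4 : (4 : F) * Q v ≠ 0 :=
      mul_ne_zero (by rw [show (4 : F) = 2 * 2 by norm_num]; exact mul_ne_zero h2 h2) hv
    rw [QuadraticMap.polarBilin_apply_apply, eq_inv_mul_iff_mul_eq₀ h4]
    linear_combination h1
  · push Not at h
    exact ⟨0, 0, fun x => by simp [h x]⟩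

include h2 in
theorem exists_value {Q : QuadraticForm F V} (hQ : Two Q) {κ : F} (hκ : κ ≠ 0) :
    ∃ v, Q v = κ := by
  obtain ⟨v, hv⟩ := hQ.exists_ne h2
  have hodd : ringChar F ≠ 2 := fun h => h2 (by
    have := (ringChar.spec F 2).2 (by rw [h])
    exact_mod_cast this)
  obtain ⟨x₀, y₀, hmin⟩ := hQ
  -- a vector orthogonal to `v` with non-zero value
  have hw : ∃ w, polar Q v w = 0 ∧ Q w ≠ 0 := by
    by_contra hall
    push Not at hall
    apply hmin
    let pr : V → V := fun x => x - (polar Q v x / (2 * Q v)) • v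
    have hpr : ∀ x, polar Q v (pr x) = 0 := fun x => by
      simp only [pr, sub_eq_add_neg, ← neg_smul, polar_add_right, polar_smul_right, polar_self',
        smul_eq_mul]
      field_simp
      ring
    have hdec : ∀ x y, polar Q x y = polar Q v x * polar Q v y / (2 * Q v) := by
      intro x y
      have h0 : polar Q (pr x) (pr y) = 0 := by
        rw [QuadraticMap.polar, hall _ (hpr x), hall _ (hpr y), hall _ (by
          rw [polar_add_right, hpr, hpr, add_zero])]
        ring
      simp only [pr, sub_eq_add_neg, ← neg_smul, polar_add_left, polar_add_right, polar_smul_left,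
        polar_smul_right, polar_self', smul_eq_mul, polar_comm Q x v] at h0
      field_simp at h0 ⊢
      linear_combination h0
    rw [hdec x₀ x₀, hdec y₀ y₀, hdec x₀ y₀]
    ring
  obtain ⟨w, hvw, hQw⟩ := hw
  obtain ⟨x, y, hxy⟩ := exists_eq_of_two hodd hv hQw κ
  refine ⟨x • v + y • w, ?_⟩
  rw [QuadraticMap.map_add (f := ⇑Q), QuadraticMap.map_smul, QuadraticMap.map_smul,
    polar_smul_left, polar_smul_right, hvw]
  simp only [smul_eq_mul, mul_zero, add_zero]
  linear_combination hxy

theorem card_pos_of [Module.Finite F V] {n : ℕ} : Finite ((Fin n → F) → F) := inferInstance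

/-- A non-zero form has at least `(q^n - 1)/2` congruent forms. -/
theorem one_le (hodd : ringChar F ≠ 2) [Module.Finite F V] {n : ℕ} (hn : finrank F V = n)
    (hn1 : 1 ≤ n) (Q : QuadraticForm F V) (hQ : ∃ v, Q v ≠ 0) :
    Fintype.card F ^ n - 1 ≤ 2 * Nat.card (Orb n Q) := by
  obtain ⟨e⟩ : Nonempty ((Fin n → F) ≃ₗ[F] V) :=
    FiniteDimensional.nonempty_linearEquiv_of_finrank_eq (by simp [hn])
  let Q₀ : QuadraticForm F (Fin n → F) := Q.comp e.toLinearMap
  have hQ₀ : ∃ v, Q₀ v ≠ 0 := by
    obtain ⟨v, hv⟩ := hQ
    exact ⟨e.symm v, by simpa [Q₀] using hv⟩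
  obtain ⟨ι, _, M, hu, hM, hcard⟩ := exists_family_odd Q₀ hodd hQ₀ hn1
  let g : ι → Orb n Q := fun x => ⟨fun b => Q₀ (M x *ᵥ b),
    (Matrix.toLinearEquiv' (M x) ((hu x).invertible)).trans e, rfl⟩
  have hg : Function.Injective g := fun x y h =>
    hM x y fun b => congrFun (congrArg Subtype.val h) b
  have h1 := (Nat.card_le_card_of_injective g hg).trans' hcard
  have h3 : Odd (Fintype.card F ^ n) :=
    (Nat.odd_iff.2 (FiniteField.odd_card_of_char_ne_two hodd)).pow
  obtain ⟨k, hk⟩ := h3
  omega

end

open scoped Matrix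

theorem arith_rad {q x A B : ℕ} (hq : 1 ≤ q) (hx : 1 ≤ x)
    (hA : (q - 1) * x * (x - 1) ≤ 2 * A) (hB : (x - 1) * (x - q) ≤ 2 * (q + 1) * B) :
    (q * x - 1) * (q * x - q) ≤ 2 * (q + 1) * (A + B) := by
  obtain ⟨r, rfl⟩ : ∃ r, q = r + 1 := ⟨q - 1, by omega⟩
  obtain ⟨z, rfl⟩ : ∃ z, x = z + 1 := ⟨x - 1, by omega⟩
  simp only [Nat.add_sub_cancel] at hA hB
  have h1 : (r + 1) * (z + 1) - 1 = r * z + r + z := by ring_nf; omega
  have h2 : (r + 1) * (z + 1) - (r + 1) = (r + 1) * z := by
    have : (r + 1) * (z + 1) = (r + 1) * z + (r + 1) := by ring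
    omega
  rw [h1, h2]
  rcases Nat.le_total r z with h | h
  · obtain ⟨w, rfl⟩ : ∃ w, z = r + w := ⟨z - r, by omega⟩
    have h3 : r + w + 1 - (r + 1) = w := by omega
    rw [h3] at hB
    nlinarith
  · nlinarith

theorem arith_nondeg {q x A B : ℕ} (hq : 3 ≤ q) (hx : q * q ≤ x)
    (hA : (q - 1) * x * B ≤ A) (hB : (x - 1) * (x - q) ≤ 2 * (q + 1) * B) :
    (q * x - 1) * (q * x - q) ≤ 2 * (q + 1) * A := by
  obtain ⟨r, rfl⟩ : ∃ r, q = r + 3 := ⟨q - 3, by omega⟩
  obtain ⟨z, rfl⟩ : ∃ z, x = z + (r + 3) := ⟨x - (r + 3), by nlinarith [Nat.sub_add_cancel (show r + 3 ≤ x by nlinarith)]⟩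
  have h0 : r + 3 - 1 = r + 2 := by omega
  have h1 : (r + 3) * (z + (r + 3)) - (r + 3) = (r + 3) * (z + (r + 2)) := by
    have : (r + 3) * (z + (r + 3)) = (r + 3) * (z + (r + 2)) + (r + 3) := by ring
    omega
  have h2 : (r + 3) * (z + (r + 3)) - 1 ≤ (r + 3) * (z + (r + 3)) := Nat.sub_le _ _
  have h3 : z + (r + 3) - 1 = z + (r + 2) := by omega
  rw [h0] at hA
  rw [h3, Nat.add_sub_cancel] at hB
  rw [h1]
  calc ((r + 3) * (z + (r + 3)) - 1) * ((r + 3) * (z + (r + 2)))
      ≤ ((r + 3) * (z + (r + 3))) * ((r + 3) * (z + (r + 2))) := Nat.mul_le_mul_right _ h2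
    _ ≤ (r + 2) * (z + (r + 3)) * ((z + (r + 2)) * z) := by
        have h4 : (r + 3) * (r + 3) ≤ (r + 2) * z := by nlinarith
        calc _ = (z + (r + 3)) * (z + (r + 2)) * ((r + 3) * (r + 3)) := by ring
          _ ≤ (z + (r + 3)) * (z + (r + 2)) * ((r + 2) * z) := Nat.mul_le_mul_left _ h4
          _ = _ := by ring
    _ ≤ (r + 2) * (z + (r + 3)) * (2 * (r + 3 + 1) * B) := Nat.mul_le_mul_left _ hB
    _ = 2 * (r + 3 + 1) * ((r + 2) * (z + (r + 3)) * B) := by ring
    _ ≤ _ := Nat.mul_le_mul_left _ hA

include h2 in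
/-- The main count. -/
theorem two_le : ∀ (n : ℕ) (V : Type _) [AddCommGroup V] [Module F V] [Module.Finite F V],
    finrank F V = n → ∀ Q : QuadraticForm F V, Two Q →
      (Fintype.card F ^ n - 1) * (Fintype.card F ^ n - Fintype.card F) ≤
        2 * (Fintype.card F + 1) * Nat.card (Orb n Q) := by
  classical
  intro n
  induction n with
  | zero => intro V _ _ _ _ Q _; simp
  | succ m ih =>
    intro V _ _ _ hn Q hQ
    have hodd : ringChar F ≠ 2 := fun h => h2 (by
      have := (ringChar.spec F 2).2 (by rw [h])
      exact_mod_cast this)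
    rcases Nat.eq_zero_or_pos m with rfl | hm
    · simp
    choose v hv using fun κ : {κ : F // κ ≠ 0} => exists_value h2 hQ κ.2
    let W : {κ : F // κ ≠ 0} → Submodule F V := fun κ => LinearMap.ker (Q.polarBilin (v κ))
    have hW : ∀ κ x, x ∈ W κ ↔ polar Q (v κ) x = 0 := fun κ x => by
      simp [W, LinearMap.mem_ker]
    have hvv : ∀ κ, polar Q (v κ) (v κ) ≠ 0 := fun κ => by
      rw [polar_self', hv]; exact mul_ne_zero h2 κ.2
    have hWdim : ∀ κ, finrank F (W κ) = m := fun κ => by
      have h1 := LinearMap.finrank_range_add_finrank_ker (Q.polarBilin (v κ))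
      have h3 : LinearMap.range (Q.polarBilin (v κ)) = ⊤ :=
        Submodule.eq_top_of_finrank_eq (le_antisymm (Submodule.finrank_le _) (by
          rw [finrank_self]
          exact Submodule.one_le_finrank_iff.2 fun h0 => hvv κ (by
            rw [LinearMap.range_eq_bot] at h0
            rw [← QuadraticMap.polarBilin_apply_apply, h0, LinearMap.zero_apply])))
      rw [h3, finrank_top, finrank_self, hn] at h1
      show finrank F (LinearMap.ker (Q.polarBilin (v κ))) = m
      omega
    have hW0 : ∀ κ, ∃ w : W κ, Q.restrict (W κ) w ≠ 0 := fun κ => by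
      by_contra hall
      push Not at hall
      have hall' : ∀ x, polar Q (v κ) x = 0 → Q x = 0 := fun x hx => hall ⟨x, (hW κ x).2 hx⟩
      obtain ⟨x₀, y₀, hmin⟩ := hQ
      apply hmin
      let pr : V → V := fun x => x - (polar Q (v κ) x / (2 * Q (v κ))) • v κ
      have h2v : (2 : F) * Q (v κ) ≠ 0 := by rw [hv]; exact mul_ne_zero h2 κ.2
      have hpr : ∀ x, polar Q (v κ) (pr x) = 0 := fun x => by
        simp only [pr, sub_eq_add_neg, ← neg_smul, polar_add_right, polar_smul_right, polar_self',
          smul_eq_mul]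
        rw [neg_mul, div_mul_cancel₀ _ h2v, add_neg_cancel]
      have hdec : ∀ x y, polar Q x y = polar Q (v κ) x * polar Q (v κ) y / (2 * Q (v κ)) := by
        intro x y
        have h0 : polar Q (pr x) (pr y) = 0 := by
          rw [QuadraticMap.polar, hall' _ (hpr x), hall' _ (hpr y), hall' _ (by
            rw [polar_add_right, hpr, hpr, add_zero])]
          ring
        simp only [pr, sub_eq_add_neg, ← neg_smul, polar_add_left, polar_add_right, polar_smul_left,
          polar_smul_right, polar_self', smul_eq_mul, polar_comm Q x (v κ)] at h0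
        rw [eq_div_iff h2v]
        have ha := div_mul_cancel₀ (polar Q (v κ) x) h2v
        linear_combination (2 * Q (v κ)) * h0 + (polar Q (v κ) y -
          polar Q (v κ) y / (2 * Q (v κ)) * (2 * Q (v κ))) * ha
      rw [hdec x₀ x₀, hdec y₀ y₀, hdec x₀ y₀]
      ring
    -- the forms with non-zero first value
    let A := Σ κ : {κ : F // κ ≠ 0}, (Fin m → F) × Orb m (Q.restrict (W κ))
    let fA : A → (Fin (m + 1) → F) → F := fun x b =>
      x.1.1 * (b 0 + x.2.1 ⬝ᵥ Fin.tail b) ^ 2 + x.2.2.1 (Fin.tail b)
    have hfA : ∀ x, fA x ∈ Orb (m + 1) Q := by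
      rintro ⟨κ, l, R, e, rfl⟩
      let T : (Fin (m + 1) → F) →ₗ[F] V :=
        { toFun := fun b => (b 0 + l ⬝ᵥ Fin.tail b) • v κ + (e (Fin.tail b) : V)
          map_add' := fun a b => by
            have ht : Fin.tail (a + b) = Fin.tail a + Fin.tail b := rfl
            rw [ht, map_add, Submodule.coe_add, dotProduct_add, Pi.add_apply]
            module
          map_smul' := fun r b => by
            have ht : Fin.tail (r • b) = r • Fin.tail b := rfl
            rw [ht, map_smul, Submodule.coe_smul, dotProduct_smul, Pi.smul_apply, RingHom.id_apply,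
              smul_eq_mul, smul_eq_mul]
            module }
      have hT : ∀ b, T b = (b 0 + l ⬝ᵥ Fin.tail b) • v κ + (e (Fin.tail b) : V) := fun b => rfl
      have hinj : Function.Injective T := by
        rw [← LinearMap.ker_eq_bot, LinearMap.ker_eq_bot']
        intro b hb
        rw [hT] at hb
        have h1 := congrArg (fun x => polar Q (v κ) x) hb
        simp only [polar_add_right, polar_smul_right, smul_eq_mul, (hW κ _).1 (e (Fin.tail b)).2,
          add_zero, polar_zero_right, mul_eq_zero, hvv κ, or_false] at h1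
        rw [h1, zero_smul, zero_add, Submodule.coe_eq_zero, LinearEquiv.map_eq_zero_iff] at hb
        rw [hb, dotProduct_zero, add_zero] at h1
        funext k
        refine Fin.cases h1 (fun k => congrFun hb k) k
      refine ⟨LinearEquiv.ofInjectiveOfFinrankEq T hinj (by simp [hn]), funext fun b => ?_⟩
      show Q (T b) = _
      rw [hT, QuadraticMap.map_add (f := ⇑Q), QuadraticMap.map_smul, polar_smul_left,
        (hW κ _).1 (e (Fin.tail b)).2, hv]
      simp only [fA, smul_eq_mul, mul_zero, add_zero, QuadraticMap.restrict_apply]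
      ring
    have hA0 : ∀ x : A, fA x (Fin.cons 1 0) = x.1.1 := by
      rintro ⟨κ, l, R, e, rfl⟩
      simp [fA, QuadraticMap.restrict_apply]
    have hinjA : Function.Injective fA := by
      intro x y h
      have hk := congrFun h (Fin.cons 1 0)
      rw [hA0, hA0] at hk
      obtain ⟨κ, l, R⟩ := x
      obtain ⟨κ', l', R'⟩ := y
      obtain rfl : κ = κ' := Subtype.ext hk
      have hl : l = l' := by
        funext k
        have h1 := congrFun h (Fin.cons 1 (Pi.single k 1))
        have h3 := congrFun h (Fin.cons (-1) (Pi.single k 1))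
        simp only [fA, Fin.cons_zero, Fin.tail_cons, dotProduct_single, mul_one] at h1 h3
        have h4 : 2 * (2 : F) * κ.1 ≠ 0 := mul_ne_zero (mul_ne_zero h2 h2) κ.2
        exact mul_left_cancel₀ h4 (by linear_combination h1 - h3)
      subst hl
      have hR : R = R' := Subtype.ext (funext fun t => by
        have h1 := congrFun h (Fin.cons 0 t)
        simp only [fA, Fin.cons_zero, Fin.tail_cons] at h1
        linear_combination h1)
      rw [hR]
    have hcardA : ∀ N, (∀ κ, N ≤ Nat.card (Orb m (Q.restrict (W κ)))) →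
        (Fintype.card F - 1) * Fintype.card F ^ m * N ≤ Nat.card A := by
      intro N hN
      have e1 : Nat.card A = ∑ κ : {κ : F // κ ≠ 0},
          Fintype.card F ^ m * Nat.card (Orb m (Q.restrict (W κ))) := by
        show Nat.card (Σ κ : {κ : F // κ ≠ 0}, _) = _
        rw [Nat.card_sigma]
        refine Finset.sum_congr rfl fun κ _ => ?_
        rw [Nat.card_prod, Nat.card_fun, Nat.card_eq_fintype_card (α := F), Nat.card_fin]
      rw [e1]
      calc (Fintype.card F - 1) * Fintype.card F ^ m * N
          = ∑ _κ : {κ : F // κ ≠ 0}, Fintype.card F ^ m * N := by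
            rw [Finset.sum_const, Finset.card_univ, Fintype.card_subtype_compl,
              Fintype.card_subtype_eq, smul_eq_mul, mul_assoc]
        _ ≤ _ := Finset.sum_le_sum fun κ _ => Nat.mul_le_mul_left _ (hN κ)
    by_cases hrad : ∃ r, r ≠ 0 ∧ ∀ x, polar Q r x = 0
    · obtain ⟨r, hr0, hr⟩ := hrad
      have hQr : Q r = 0 := by
        have := hr r
        rw [polar_self'] at this
        exact (mul_eq_zero.1 this).resolve_left h2
      obtain ⟨U, hU⟩ := (F ∙ r).exists_isCompl
      have hUdim : finrank F U = m := by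
        have := Submodule.finrank_add_eq_of_isCompl hU
        rw [finrank_span_singleton hr0, hn] at this
        omega
      have hUtwo : Two (Q.restrict U) := by
        obtain ⟨x₀, y₀, hmin⟩ := hQ
        have hdec : ∀ x : V, ∃ w : U, ∀ y, polar Q x y = polar Q (w : V) y := by
          intro x
          obtain ⟨a, ha, w, hw, rfl⟩ := Submodule.mem_sup.1
            (hU.sup_eq_top.symm ▸ Submodule.mem_top (x := x))
          obtain ⟨t, rfl⟩ := Submodule.mem_span_singleton.1 ha
          exact ⟨⟨w, hw⟩, fun y => by
            rw [polar_add_left, polar_smul_left, hr, smul_zero, zero_add]⟩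
        obtain ⟨x, hx⟩ := hdec x₀
        obtain ⟨y, hy⟩ := hdec y₀
        refine ⟨x, y, ?_⟩
        rw [polar_restrict, polar_restrict, polar_restrict]
        have e1 : polar Q x₀ x₀ = polar Q (x : V) (x : V) := by rw [hx, polar_comm Q, hx]
        have e2 : polar Q y₀ y₀ = polar Q (y : V) (y : V) := by rw [hy, polar_comm Q, hy]
        have e3 : polar Q x₀ y₀ = polar Q (x : V) (y : V) := by
          rw [hx, polar_comm Q, hy, polar_comm Q]
        rwa [e1, e2, e3] at hmin
      let fB : Orb m (Q.restrict U) → (Fin (m + 1) → F) → F := fun R b => R.1 (Fin.tail b)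
      have hfB : ∀ R, fB R ∈ Orb (m + 1) Q := by
        rintro ⟨R, e, rfl⟩
        let T : (Fin (m + 1) → F) →ₗ[F] V :=
          { toFun := fun b => b 0 • r + (e (Fin.tail b) : V)
            map_add' := fun a b => by
              have ht : Fin.tail (a + b) = Fin.tail a + Fin.tail b := rfl
              rw [ht, map_add, Submodule.coe_add, Pi.add_apply]
              module
            map_smul' := fun s b => by
              have ht : Fin.tail (s • b) = s • Fin.tail b := rfl
              rw [ht, map_smul, Submodule.coe_smul, Pi.smul_apply, RingHom.id_apply, smul_eq_mul]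
              module }
        have hT : ∀ b, T b = b 0 • r + (e (Fin.tail b) : V) := fun b => rfl
        have hinj : Function.Injective T := by
          rw [← LinearMap.ker_eq_bot, LinearMap.ker_eq_bot']
          intro b hb
          rw [hT] at hb
          have h1 : b 0 • r ∈ U := by
            rw [eq_neg_of_add_eq_zero_left hb]; exact neg_mem (e _).2
          have h3 : b 0 • r = 0 := Submodule.disjoint_def.1 hU.disjoint _
            (Submodule.smul_mem _ _ (Submodule.mem_span_singleton_self r)) h1
          rw [h3, zero_add, Submodule.coe_eq_zero, LinearEquiv.map_eq_zero_iff] at hb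
          funext k
          exact Fin.cases ((smul_eq_zero.1 h3).resolve_right hr0) (fun k => congrFun hb k) k
        refine ⟨LinearEquiv.ofInjectiveOfFinrankEq T hinj (by simp [hn]), funext fun b => ?_⟩
        show Q (T b) = _
        rw [hT, QuadraticMap.map_add (f := ⇑Q), QuadraticMap.map_smul, polar_smul_left, hr, hQr]
        simp [fB, QuadraticMap.restrict_apply]
      have hB0 : ∀ R, fB R (Fin.cons 1 0) = 0 := by
        rintro ⟨R, e, rfl⟩
        simp [fB, QuadraticMap.restrict_apply]
      let g : A ⊕ Orb m (Q.restrict U) → Orb (m + 1) Q :=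
        Sum.elim (fun x => ⟨fA x, hfA x⟩) fun R => ⟨fB R, hfB R⟩
      have hg : Function.Injective g := by
        rintro (x | x) (y | y) h
        · exact congrArg Sum.inl (hinjA (congrArg Subtype.val h))
        · exfalso
          have h1 := congrFun (congrArg Subtype.val h) (Fin.cons 1 0)
          exact x.1.2 (by rw [← hA0 x]; exact h1.trans (hB0 y))
        · exfalso
          have h1 := congrFun (congrArg Subtype.val h) (Fin.cons 1 0)
          exact y.1.2 (by rw [← hA0 y]; exact h1.symm.trans (hB0 x))
        · refine congrArg Sum.inr (Subtype.ext (funext fun t => ?_))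
          have h1 := congrFun (congrArg Subtype.val h) (Fin.cons 0 t)
          simpa [g, fB] using h1
      have hsum := Nat.card_le_card_of_injective g hg
      rw [Nat.card_sum] at hsum
      have hA2 : (Fintype.card F - 1) * Fintype.card F ^ m * (Fintype.card F ^ m - 1) ≤
          2 * Nat.card A := by
        have h1 := hcardA ((Fintype.card F ^ m - 1) / 2) fun κ => Nat.div_le_of_le_mul
          (one_le hodd (hWdim κ) hm _ (hW0 κ))
        have h3 : Odd (Fintype.card F ^ m) :=
          (Nat.odd_iff.2 (FiniteField.odd_card_of_char_ne_two hodd)).pow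
        obtain ⟨k, hk⟩ := h3
        have h4 : 2 * ((Fintype.card F ^ m - 1) / 2) = Fintype.card F ^ m - 1 := by omega
        calc _ = 2 * ((Fintype.card F - 1) * Fintype.card F ^ m * ((Fintype.card F ^ m - 1) / 2)) := by
              rw [mul_left_comm 2, h4]
          _ ≤ _ := Nat.mul_le_mul_left _ h1
      rw [pow_succ']
      exact le_trans (arith_rad Fintype.card_pos (Nat.one_le_pow _ _ Fintype.card_pos) hA2
        (ih U hUdim _ hUtwo)) (Nat.mul_le_mul_left _ hsum)
    · push Not at hrad
      let g : A → Orb (m + 1) Q := fun x => ⟨fA x, hfA x⟩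
      have hg : Function.Injective g := fun x y h => hinjA (congrArg Subtype.val h)
      have hsum := Nat.card_le_card_of_injective g hg
      rw [pow_succ']
      rcases Nat.eq_or_lt_of_le hm with hm1 | hm1
      · obtain rfl : m = 1 := hm1.symm
        rw [pow_one]
        have hA1 := hcardA ((Fintype.card F ^ 1 - 1) / 2) fun κ => Nat.div_le_of_le_mul
          (one_le hodd (hWdim κ) le_rfl _ (hW0 κ))
        rw [pow_one] at hA1
        have h3 : Odd (Fintype.card F) := Nat.odd_iff.2 (FiniteField.odd_card_of_char_ne_two hodd)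
        obtain ⟨k, hk⟩ := h3
        refine le_trans ?_ (Nat.mul_le_mul_left _ (hA1.trans hsum))
        rw [hk]
        have e1 : (2 * k + 1 - 1) / 2 = k := by omega
        have e2 : 2 * k + 1 - 1 = 2 * k := by omega
        have e3 : (2 * k + 1) * (2 * k + 1) - 1 = 4 * k * (k + 1) := by
          have : (2 * k + 1) * (2 * k + 1) = 4 * k * (k + 1) + 1 := by ring
          omega
        have e4 : (2 * k + 1) * (2 * k + 1) - (2 * k + 1) = (2 * k + 1) * (2 * k) := by
          have : (2 * k + 1) * (2 * k + 1) = (2 * k + 1) * (2 * k) + (2 * k + 1) := by ring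
          omega
        rw [e1, e2, e3, e4]
        apply le_of_eq
        ring
      have hWtwo : ∀ κ, Two (Q.restrict (W κ)) := by
        intro κ
        obtain ⟨x, hx⟩ := hW0 κ
        rw [QuadraticMap.restrict_apply] at hx
        have hy : ∃ y, y ∈ W κ ∧ polar Q (x : V) y = 0 ∧ Q y ≠ 0 := by
          by_contra hall
          push Not at hall
          let f : W κ →ₗ[F] F := (Q.polarBilin (x : V)).comp (W κ).subtype
          have hker : 1 ≤ finrank F (LinearMap.ker f) := by
            have h1 := LinearMap.finrank_range_add_finrank_ker f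
            have h3 := Submodule.finrank_le (LinearMap.range f)
            rw [finrank_self] at h3
            rw [hWdim] at h1
            omega
          obtain ⟨y, hy, hy0⟩ := Submodule.exists_mem_ne_zero_of_ne_bot
            (Submodule.one_le_finrank_iff.1 hker)
          have hy' : polar Q (x : V) (y : V) = 0 := by
            simpa [f, LinearMap.mem_ker] using hy
          obtain ⟨z, hz⟩ := hrad (y : V) (fun h => hy0 (Subtype.ext h))
          apply hz
          let z1 : V := z - (polar Q (v κ) z / polar Q (v κ) (v κ)) • v κ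
          have hz1 : polar Q (v κ) z1 = 0 := by
            simp only [z1, sub_eq_add_neg, ← neg_smul, polar_add_right, polar_smul_right,
              smul_eq_mul]
            rw [neg_mul, div_mul_cancel₀ _ (hvv κ), add_neg_cancel]
          have hxx : polar Q (x : V) (x : V) ≠ 0 := by
            rw [polar_self']; exact mul_ne_zero h2 hx
          let z2 : V := z1 - (polar Q (x : V) z1 / polar Q (x : V) (x : V)) • (x : V)
          have hz2 : polar Q (x : V) z2 = 0 := by
            simp only [z2, sub_eq_add_neg, ← neg_smul, polar_add_right, polar_smul_right,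
              smul_eq_mul]
            rw [neg_mul, div_mul_cancel₀ _ hxx, add_neg_cancel]
          have hz2W : z2 ∈ W κ := Submodule.sub_mem _ ((hW κ _).2 hz1) (Submodule.smul_mem _ _ x.2)
          have h0 : polar Q (y : V) z2 = 0 := by
            rw [QuadraticMap.polar, hall _ y.2 hy', hall _ hz2W hz2, hall _
              (Submodule.add_mem _ y.2 hz2W) (by rw [polar_add_right, hy', hz2, add_zero])]
            ring
          simp only [z2, z1, sub_eq_add_neg, ← neg_smul, polar_add_right, polar_smul_right,
            smul_eq_mul, polar_comm Q (y : V) (v κ), (hW κ _).1 y.2, polar_comm Q (y : V) (x : V),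
            hy', mul_zero, add_zero] at h0
          exact h0
        obtain ⟨y, hyW, hxy, hy⟩ := hy
        refine ⟨x, ⟨y, hyW⟩, ?_⟩
        rw [polar_restrict, polar_restrict, polar_restrict, polar_self', polar_self', hxy]
        simpa using mul_ne_zero (mul_ne_zero h2 hx) (mul_ne_zero h2 hy)
      have hq : 3 ≤ Fintype.card F := by
        have h1 := Fintype.one_lt_card (α := F)
        have h3 : Fintype.card F % 2 = 1 := FiniteField.odd_card_of_char_ne_two hodd
        omega
      have hx2 : Fintype.card F * Fintype.card F ≤ Fintype.card F ^ m := by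
        rw [← pow_two]; exact Nat.pow_le_pow_right Fintype.card_pos hm1
      obtain ⟨N, hN, hNb⟩ : ∃ N, (∀ κ, N ≤ Nat.card (Orb m (Q.restrict (W κ)))) ∧
          (Fintype.card F ^ m - 1) * (Fintype.card F ^ m - Fintype.card F) ≤
            2 * (Fintype.card F + 1) * N := by
        have hne : (Finset.univ : Finset {κ : F // κ ≠ 0}).Nonempty :=
          ⟨⟨1, one_ne_zero⟩, Finset.mem_univ _⟩
        obtain ⟨κ₀, -, hmin⟩ := Finset.exists_min_image Finset.univ
          (fun κ => Nat.card (Orb m (Q.restrict (W κ)))) hne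
        exact ⟨_, fun κ => hmin κ (Finset.mem_univ _), ih (W κ₀) (hWdim κ₀) _ (hWtwo κ₀)⟩
      exact le_trans (arith_nondeg hq hx2 (hcardA N hN) hNb) (Nat.mul_le_mul_left _ hsum)

end Cfsg.Agent.SimpleFacts.WeilChar.Forms
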