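import Mathlib
import Cfsg.Agent.SimpleFacts.WeilChar.Elements
import Cfsg.Agent.Lib.Classical.SympMinDeg.Orbit

/-!
# Generation of the symplectic group by the radical, the Levi subgroup and one swap
-/

set_option autoImplicit false
set_option linter.unusedSectionVars false

namespace Cfsg.Agent.SimpleFacts.WeilChar

open Matrix
open Cfsg.Agent.Forms.SympStd
open Cfsg.Agent.Classical.SympMinDeg

variable {F : Type*} [Field F] {n : ℕ}

local notation "Pt" => (Fin n → F)
local notation "Vec" => (Fin n ⊕ Fin n → F)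
local notation "Sp" => Matrix.symplecticGroup (Fin n) F
local notation "MatV" => Matrix (Fin n ⊕ Fin n) (Fin n ⊕ Fin n) F
local notation "GLn" => (Matrix (Fin n) (Fin n) F)ˣ

/-- A subgroup of `GL` containing the transvections and the diagonal elements is everything. -/
theorem gl_top {H : Subgroup (Matrix (Fin n) (Fin n) F)ˣ} (hd : ∀ d, diagU d ∈ H)
    (ht : ∀ i j (h : i ≠ j) t, tvU i j h t ∈ H) (P : GLn) : P ∈ H := by
  have key : ∀ Q : GLn, (Q : Matrix (Fin n) (Fin n) F) = (P : Matrix (Fin n) (Fin n) F) → Q ∈ H := by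
    refine Matrix.diagonal_transvection_induction_of_det_ne_zero
      (fun M => ∀ Q : GLn, (Q : Matrix (Fin n) (Fin n) F) = M → Q ∈ H) _
      ((Matrix.isUnit_iff_isUnit_det _).1 P.isUnit).ne_zero ?_ ?_ ?_
    · intro D hD Q hQ
      rw [Matrix.det_diagonal, Finset.prod_ne_zero_iff] at hD
      have e : Q = diagU fun k => Units.mk0 (D k) (hD k (Finset.mem_univ k)) := Units.ext (by
        rw [hQ, coe_diagU]
        rfl)
      rw [e]
      exact hd _
    · intro t Q hQ
      have e : Q = tvU t.i t.j t.hij t.c := Units.ext (by rw [hQ, coe_tvU]; rfl)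
      rw [e]
      exact ht _ _ _ _
    · intro A B hA hB ihA ihB Q hQ
      obtain ⟨A', hA'⟩ := (Matrix.isUnit_iff_isUnit_det A).2 (isUnit_iff_ne_zero.2 hA)
      obtain ⟨B', hB'⟩ := (Matrix.isUnit_iff_isUnit_det B).2 (isUnit_iff_ne_zero.2 hB)
      have e : Q = A' * B' := Units.ext (by rw [hQ, Units.val_mul, hA', hB'])
      rw [e]
      exact H.mul_mem (ihA A' hA') (ihB B' hB')
  exact key P rfl

/-- An invertible matrix moving one non-zero vector to another. -/
theorem exists_gl_move {a b : Pt} (ha : a ≠ 0) (hb : b ≠ 0) :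
    ∃ P : GLn, (P : Matrix (Fin n) (Fin n) F) *ᵥ a = b := by
  obtain ⟨i₀, -⟩ := Function.ne_iff.1 ha
  have hto : ∀ c : Pt, c ≠ 0 → ∃ P : GLn,
      (P : Matrix (Fin n) (Fin n) F) *ᵥ Pi.single i₀ 1 = c := by
    intro c hc
    obtain ⟨P, hP, h⟩ := exists_unit_cols (fun _ : Fin 1 => i₀)
      (fun a b _ => Subsingleton.elim a b) (fun _ => c) (linearIndependent_unique_iff.2 hc)
    exact ⟨hP.unit, h 0⟩
  obtain ⟨P, hP⟩ := hto a ha
  obtain ⟨Q, hQ⟩ := hto b hb
  refine ⟨Q * P⁻¹, ?_⟩
  rw [← hP, Units.val_mul, Matrix.mulVec_mulVec, Matrix.mul_assoc, Units.inv_mul, Matrix.mul_one, hQ]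

theorem exists_act {a b : Pt} (ha : a ≠ 0) (hb : b ≠ 0) : ∃ P : GLn, act P a = b := by
  obtain ⟨P, hP⟩ := exists_gl_move hb ha
  refine ⟨⟨(P : Matrix (Fin n) (Fin n) F)ᵀ, (↑P⁻¹ : Matrix (Fin n) (Fin n) F)ᵀ, ?_, ?_⟩, ?_⟩
  · rw [← Matrix.transpose_mul, Units.inv_mul, Matrix.transpose_one]
  · rw [← Matrix.transpose_mul, Units.mul_inv, Matrix.transpose_one]
  · rw [act_eq_iff]
    show (P : Matrix (Fin n) (Fin n) F)ᵀᵀ *ᵥ b = a
    rw [Matrix.transpose_transpose, hP]

/-- A symmetric matrix with a prescribed value at a non-zero vector. -/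
theorem exists_symm_mulVec {y : Pt} (hy : y ≠ 0) (z : Pt) :
    ∃ S : symm F n, (S : Matrix (Fin n) (Fin n) F) *ᵥ y = z := by
  obtain ⟨l, hl⟩ := Function.ne_iff.1 hy
  rw [Pi.zero_apply] at hl
  let e : Pt := Pi.single l (y l)⁻¹
  have he : e ⬝ᵥ y = 1 := by simp [e, hl]
  refine ⟨oEl 1 z e - rEl (z ⬝ᵥ y) e, ?_⟩
  rw [AddSubgroup.coe_sub, coe_oEl, coe_rEl, Matrix.sub_mulVec, Matrix.smul_mulVec,
    Matrix.smul_mulVec, Matrix.add_mulVec, Matrix.vecMulVec_mulVec, Matrix.vecMulVec_mulVec,
    Matrix.vecMulVec_mulVec, he]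
  funext k
  simp [mul_comm]

/-- The group is generated by the radical, the Levi elements and one swap. -/
theorem gen_top {H : Subgroup (Matrix.symplecticGroup (Fin n) F)}
    (hN : ∀ S, (sRad S : Sp) ∈ H) (hL : ∀ P, lev P ∈ H) (i : Fin n) (hw : (swp i : Sp) ∈ H)
    (g : Sp) : g ∈ H := by
  let e : Vec := Pi.single (Sum.inl i) 1
  -- the base transvection
  have hbase : ∀ c : F, tv e c ∈ H := by
    intro c
    obtain ⟨ε, hε⟩ : ∃ ε : F, ∀ x : Vec, Cfsg.sympForm n F e x = ε * x (Sum.inr i) ∧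
        Cfsg.sympForm n F x e = -ε * x (Sum.inr i) := by
      refine ⟨Cfsg.sympForm n F e (Pi.single (Sum.inr i) 1), fun x => ⟨?_, ?_⟩⟩
      · simp [e, sympForm_eq, Pi.single_apply]
      · simp [e, sympForm_eq, Pi.single_apply]
    have key : tv e c = sRad (rEl (-(c * ε)) (Pi.single i 1)) := by
      refine sp_ext fun x => funext fun r => ?_
      rw [tv_mulVec]
      rcases r with r | r
      · rw [sRad_inl, rEl_mulVec]
        simp [e, (hε x).1, (hε x).2, Pi.single_apply]
        split_ifs <;> ring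
      · rw [sRad_inr]
        simp [e, Pi.single_apply]
    rw [key]
    exact hN _
  -- transitivity on non-zero vectors
  have htrans : ∀ v : Vec, v ≠ 0 → ∃ h ∈ H, ((h : Sp) : MatV) *ᵥ v = e := by
    have hY : ∀ v : Vec, v ∘ Sum.inr ≠ 0 → ∃ h ∈ H, ((h : Sp) : MatV) *ᵥ v = e := by
      intro v hv
      obtain ⟨P, hP⟩ := exists_act hv (b := Pi.single i (1 : F))
        (fun h => one_ne_zero (α := F) (by simpa using congrFun h i))
      let v₁ : Vec := ((lev P : Sp) : MatV) *ᵥ v
      have h1 : v₁ ∘ Sum.inr = Pi.single i 1 := by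
        funext k
        show (((lev P : Sp) : MatV) *ᵥ v) (Sum.inr k) = _
        rw [lev_inr]
        exact congrFun hP k
      obtain ⟨S, hS⟩ := exists_symm_mulVec (y := v₁ ∘ Sum.inr)
        (fun h => one_ne_zero (α := F) (by simpa using congrFun (h1.symm.trans h) i)) (-(v₁ ∘ Sum.inl))
      refine ⟨swp i * (sRad S * lev P), H.mul_mem hw (H.mul_mem (hN S) (hL P)), ?_⟩
      rw [mul_mulVec_sp, mul_mulVec_sp]
      show (swp i : Sp).1 *ᵥ ((sRad S : Sp).1 *ᵥ v₁) = e
      have h2 : (sRad S : Sp).1 *ᵥ v₁ = Pi.single (Sum.inr i) 1 := by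
        funext r
        rcases r with r | r
        · rw [sRad_inl, hS]
          simp
        · rw [sRad_inr]
          have := congrFun h1 r
          simp only [Function.comp_apply] at this
          rw [this]
          simp [Pi.single_apply]
      rw [h2, coe_swp]
      funext r
      rcases r with r | r
      · rw [swpMat_inl]
        by_cases hr : r = i <;> simp [e, hr]
      · rw [swpMat_inr]
        by_cases hr : r = i <;> simp [e, hr]
    intro v hv
    by_cases hy : v ∘ Sum.inr = 0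
    · have hx : v ∘ Sum.inl ≠ 0 := by
        intro hx
        apply hv
        funext r
        rcases r with r | r
        · exact congrFun hx r
        · exact congrFun hy r
      obtain ⟨P, hP⟩ := exists_gl_move hx (b := Pi.single i (1 : F))
        (fun h => one_ne_zero (α := F) (by simpa using congrFun h i))
      let v₁ : Vec := (swp i : Sp).1 *ᵥ (((lev P : Sp) : MatV) *ᵥ v)
      obtain ⟨h, hh, he⟩ := hY v₁ fun h0 => by
        have := congrFun h0 i
        simp only [v₁, coe_swp, Function.comp_apply, swpMat_inr, if_true, lev_inl,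
          Pi.zero_apply] at this
        rw [hP] at this
        simp at this
      refine ⟨h * (swp i * lev P), H.mul_mem hh (H.mul_mem hw (hL P)), ?_⟩
      rw [mul_mulVec_sp, mul_mulVec_sp]
      exact he
    · exact hY v hy
  have hall : ∀ (v : Vec) (c : F), tv v c ∈ H := by
    intro v c
    by_cases hv : v = 0
    · have : tv v c = 1 := sp_ext fun x => by rw [tv_mulVec, hv]; simp
      rw [this]; exact H.one_mem
    obtain ⟨h, hh, he⟩ := htrans v hv
    have e1 : tv v c = h⁻¹ * tv e c * h := by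
      rw [← he, ← Cfsg.Agent.Classical.Symplectic.tv_conj]
      group
    rw [e1]
    exact H.mul_mem (H.mul_mem (H.inv_mem hh) (hbase c)) hh
  have hg : g ∈ Subgroup.closure (tvSet (F := F) (m := n) ∅) := by
    rw [closure_tvSet_eq_top]; exact Subgroup.mem_top g
  refine (Subgroup.closure_le H).2 ?_ hg
  rintro A ⟨w, c, -, hA⟩
  have : A = tv w c := Subtype.ext hA
  rw [this]
  exact hall w c

end Cfsg.Agent.SimpleFacts.WeilChar
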