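import Mathlib
import Cfsg.Agent.SimpleFacts.WeilChar.Weights

/-!
# Invariance of subspaces under the swaps

In a representation all whose weights are labelled by vectors, the subspaces moved by a root group
and invariant under a few elements are invariant under the swaps.
-/

set_option autoImplicit false
set_option linter.unusedSectionVars false

namespace Cfsg.Agent.SimpleFacts.WeilChar

open Matrix
open Cfsg.Agent.Classical.SympMinDeg

variable {F : Type*} [Field F] [Fintype F] {n : ℕ}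

local notation "Pt" => (Fin n → F)
local notation "Sp" => Matrix.symplecticGroup (Fin n) F
local notation "GLn" => (Matrix (Fin n) (Fin n) F)ˣ
local notation "Ch" => AddChar (symm F n) ℂ
local notation "𝕫" => fun (i : Fin n) (κ : F) => rEl κ (Pi.single i (1 : F))
local notation "𝕠" => fun (i k : Fin n) (t : F) => oEl t (Pi.single i (1 : F)) (Pi.single k (1 : F))

variable {V : Type*} [AddCommGroup V] [Module ℂ V]
  (ρ : Representation ℂ (Matrix.symplecticGroup (Fin n) F) V)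

/-- The elements mapping a subspace into itself. -/
def stab (L : Submodule ℂ V) : Subgroup (Matrix.symplecticGroup (Fin n) F) where
  carrier := {g | ∀ v ∈ L, ρ g v ∈ L}
  one_mem' v hv := by simpa using hv
  mul_mem' {g h} hg hh v hv := by rw [pi_mul]; exact hg _ (hh v hv)
  inv_mem' {g} hg := by
    have hpow : ∀ k : ℕ, ∀ v ∈ L, ρ (g ^ k) v ∈ L := by
      intro k
      induction k with
      | zero => intro v hv; simpa using hv
      | succ k ih => intro v hv; rw [pow_succ, pi_mul]; exact ih _ (hg v hv)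
    have e : g⁻¹ = g ^ (orderOf g - 1) := by
      refine inv_eq_of_mul_eq_one_left ?_
      rw [← pow_succ, Nat.sub_add_cancel (orderOf_pos g), pow_orderOf_eq_one]
    rw [e]
    exact hpow _

theorem mem_stab {L : Submodule ℂ V} {g : Sp} : g ∈ stab ρ L ↔ ∀ v ∈ L, ρ g v ∈ L := Iff.rfl

theorem mem_stab_span {s : Set V} {g : Sp} (h : ∀ v ∈ s, ρ g v ∈ Submodule.span ℂ s) :
    g ∈ stab ρ (Submodule.span ℂ s) :=
  fun v hv => (Submodule.span_le.2 h : Submodule.span ℂ s ≤ (Submodule.span ℂ s).comap (ρ g)) hv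

theorem sRad_mem_stab_span {s : Set V} (h : ∀ v ∈ s, ∃ χ, v ∈ Wt ρ χ) (S : symm F n) :
    (sRad S : Sp) ∈ stab ρ (Submodule.span ℂ s) :=
  mem_stab_span ρ fun v hv => by
    obtain ⟨χ, hχ⟩ := h v hv
    rw [hχ S]
    exact Submodule.smul_mem _ _ (Submodule.subset_span hv)

theorem proj_mem_of_stab {L : Submodule ℂ V} (h : ∀ S : symm F n, (sRad S : Sp) ∈ stab ρ L)
    (χ : Ch) {v : V} (hv : v ∈ L) : proj ρ χ v ∈ L := by
  rw [proj_apply]
  exact L.smul_mem _ (L.sum_mem fun S _ => L.smul_mem _ (h S v hv))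

theorem proj_span {s : Set V} (h : ∀ v ∈ s, ∃ χ, v ∈ Wt ρ χ) (χ : Ch) {v : V}
    (hv : v ∈ Submodule.span ℂ s) : proj ρ χ v ∈ Submodule.span ℂ {x ∈ s | x ∈ Wt ρ χ} := by
  classical
  have hle : Submodule.span ℂ s ≤ (Submodule.span ℂ {x ∈ s | x ∈ Wt ρ χ}).comap (proj ρ χ) := by
    refine Submodule.span_le.2 fun x hx => ?_
    obtain ⟨χ', hχ'⟩ := h x hx
    rw [SetLike.mem_coe, Submodule.mem_comap, proj_of_mem ρ hχ']
    split_ifs with e
    · exact Submodule.subset_span ⟨hx, e ▸ hχ'⟩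
    · exact Submodule.zero_mem _
  exact hle hv

/-- The vectors fixed by a root group. -/
def Fix (i : Fin n) : Submodule ℂ V where
  carrier := {v | ∀ κ, ρ (sRad (𝕫 i κ)) v = v}
  zero_mem' κ := by simp
  add_mem' {v w} hv hw κ := by rw [map_add, hv, hw]
  smul_mem' t v hv κ := by rw [map_smul, hv]

/-- The vectors moved by a root group. -/
def Mov (i : Fin n) : Submodule ℂ V := LinearMap.ker (∑ κ : F, ρ (sRad (𝕫 i κ)))

theorem mem_Mov {i : Fin n} {v : V} : v ∈ Mov ρ i ↔ ∑ κ : F, ρ (sRad (𝕫 i κ)) v = 0 := by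
  simp [Mov, LinearMap.mem_ker, LinearMap.sum_apply]

theorem fix_of_comm {i : Fin n} {g : Sp} (hg : ∀ κ, g * sRad (𝕫 i κ) = sRad (𝕫 i κ) * g) {v : V}
    (hv : v ∈ Fix ρ i) : ρ g v ∈ Fix ρ i := fun κ => by
  rw [← pi_mul, ← hg, pi_mul, hv κ]

theorem mov_of_comm {i : Fin n} {g : Sp} (hg : ∀ κ, g * sRad (𝕫 i κ) = sRad (𝕫 i κ) * g) {v : V}
    (hv : v ∈ Mov ρ i) : ρ g v ∈ Mov ρ i := by
  rw [mem_Mov] at hv ⊢
  rw [Finset.sum_congr rfl fun κ _ => by rw [← pi_mul, ← hg, pi_mul], ← map_sum, hv, map_zero]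

theorem sRad_comm (S T : symm F n) : (sRad S : Sp) * sRad T = sRad T * sRad S := by
  rw [← sRad_add, ← sRad_add, add_comm]

theorem swp_rEl (i j : Fin n) (h : i ≠ j) (κ : F) :
    (swp j : Sp) * sRad (𝕫 i κ) = sRad (𝕫 i κ) * swp j :=
  swp_sRad j _ fun k => by simp [coe_rEl, Matrix.vecMulVec_apply, h.symm]

theorem swp_oEl_comm (i k j : Fin n) (hi : i ≠ j) (hk : k ≠ j) (t : F) :
    (swp j : Sp) * sRad (𝕠 i k t) = sRad (𝕠 i k t) * swp j :=
  swp_sRad j _ fun l => by simp [coe_oEl, Matrix.vecMulVec_apply, hi.symm, hk.symm]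

variable {ψ : AddChar F ℂ}

theorem wchar_zEl (c : F) (a : Pt) (i : Fin n) (κ : F) :
    wchar ψ c a (𝕫 i κ) = ψ (c * a i ^ 2 * κ) := by
  simp only [wchar_rEl, dotProduct_single, mul_one]

theorem wchar_xEl (c : F) (a : Pt) (i k : Fin n) (t : F) :
    wchar ψ c a (𝕠 i k t) = ψ (2 * c * a i * a k * t) := by
  simp only [wchar_oEl, dotProduct_single, mul_one]

theorem mem_Fix_of {c : F} {a : Pt} {i : Fin n} (ha : a i = 0) {v : V}
    (hv : v ∈ Wt ρ (wchar ψ c a)) : v ∈ Fix ρ i := fun κ => by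
  rw [hv, wchar_zEl, ha]
  simp

theorem mem_Mov_of (hψ : ψ ≠ 1) {c : F} (hc : c ≠ 0) {a : Pt} {i : Fin n} (ha : a i ≠ 0) {v : V}
    (hv : v ∈ Wt ρ (wchar ψ c a)) : v ∈ Mov ρ i := by
  classical
  rw [mem_Mov, Finset.sum_congr rfl fun κ _ => hv (𝕫 i κ), ← Finset.sum_smul]
  simp only [wchar_zEl]
  have h0 : ∑ κ : F, AddChar.mulShift ψ (c * a i ^ 2) κ = 0 :=
    AddChar.sum_eq_zero_of_ne_one fun h => by
      have := (mulShift_bijective hψ).1 (h.trans (AddChar.mulShift_zero ψ).symm)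
      exact mul_ne_zero hc (pow_ne_zero 2 ha) this
  simp only [AddChar.mulShift_apply] at h0
  rw [h0, zero_smul]

theorem label_of_Mov {c : F} {a : Pt} {i : Fin n} {v : V} (hv0 : v ≠ 0)
    (hv : v ∈ Wt ρ (wchar ψ c a)) (hm : v ∈ Mov ρ i) : c ≠ 0 ∧ a i ≠ 0 := by
  by_contra h
  have h1 : c * a i ^ 2 = 0 := by
    rcases not_and_or.1 h with h | h <;> simp [not_not.1 h]
  rw [mem_Mov, Finset.sum_congr rfl fun κ _ => hv (𝕫 i κ), ← Finset.sum_smul, smul_eq_zero] at hm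
  rcases hm with hm | hm
  · simp [wchar_zEl, h1] at hm
  · exact hv0 hm

theorem label_of_Fix (hψ : ψ ≠ 1) {c : F} {a : Pt} {i : Fin n} {v : V} (hv0 : v ≠ 0)
    (hv : v ∈ Wt ρ (wchar ψ c a)) (hm : v ∈ Fix ρ i) : c * a i ^ 2 = 0 := by
  refine shift_inj hψ fun κ => ?_
  rw [zero_mul, AddChar.map_zero_eq_one]
  refine smul_left_injective ℂ hv0 ?_
  show ψ (c * a i ^ 2 * κ) • v = (1 : ℂ) • v
  rw [← wchar_zEl, ← hv, one_smul]
  exact hm κ

/-- Two labels moved by the root group of `i` agree if they agree on the root groups in row `i`. -/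
theorem wchar_eq_of_row (hψ : ψ ≠ 1) (h2 : (2 : F) ≠ 0) {c c' : F} {a a' : Pt} {i : Fin n}
    (hc : c ≠ 0) (ha : a i ≠ 0) (hd : c * a i ^ 2 = c' * a' i ^ 2)
    (ho : ∀ k, k ≠ i → c * a i * a k = c' * a' i * a' k) : wchar ψ c a = wchar ψ c' a' := by
  rw [wchar_eq_iff hψ h2]
  have ho' : ∀ k, c * a i * a k = c' * a' i * a' k := fun k => by
    rcases eq_or_ne k i with rfl | hk
    · linear_combination hd
    · exact ho k hk
  intro k l
  refine mul_left_cancel₀ (mul_ne_zero hc (pow_ne_zero 2 ha)) ?_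
  linear_combination (c * a i * a l) * ho' k + (c' * a' i * a' k) * ho' l - (c' * a' k * a' l) * hd

theorem sRad_mem_stab_of_row (hψ : ψ ≠ 1) (h2 : (2 : F) ≠ 0) (hR : RankOne ρ ψ) {i : Fin n}
    {L : Submodule ℂ V} (hL : L ≤ Mov ρ i) (hz : ∀ κ, (sRad (𝕫 i κ) : Sp) ∈ stab ρ L)
    (ho : ∀ k t, k ≠ i → (sRad (𝕠 i k t) : Sp) ∈ stab ρ L) (S : symm F n) :
    (sRad S : Sp) ∈ stab ρ L := by
  classical
  intro v hv
  let s : Finset Ch := Finset.univ.filter fun χ => proj ρ χ v ≠ 0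
  have hs : ∑ χ ∈ s, proj ρ χ v = v := by
    conv_rhs => rw [← sum_proj ρ v]
    exact Finset.sum_filter_of_ne fun χ _ h => h
  have hlab : ∀ χ ∈ s, ∃ (c : F) (a : Pt), χ = wchar ψ c a ∧ c ≠ 0 ∧ a i ≠ 0 := by
    intro χ hχ
    have h0 : proj ρ χ v ≠ 0 := (Finset.mem_filter.1 hχ).2
    have hm : proj ρ χ v ∈ Mov ρ i := by
      rw [proj_apply]
      exact Submodule.smul_mem _ _ (Submodule.sum_mem _ fun T _ => Submodule.smul_mem _ _
        (mov_of_comm ρ (fun κ => sRad_comm _ _) (hL hv)))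
    obtain ⟨c, a, rfl⟩ := hR χ _ h0 (proj_mem ρ χ v)
    exact ⟨c, a, rfl, label_of_Mov ρ h0 (proj_mem ρ _ v) hm⟩
  have hcomp : ∀ χ ∈ s, proj ρ χ v ∈ L := by
    refine comp_mem L (fun T : {T : symm F n // (sRad T : Sp) ∈ stab ρ L} => ρ (sRad T.1))
      (fun T x hx => T.2 x hx) (fun χ T => χ T.1) s (fun χ => proj ρ χ v)
      (fun χ _ T => proj_mem ρ χ v T.1) ?_ (by rw [hs]; exact hv)
    intro χ hχ χ' hχ' hne
    by_contra hcon
    push Not at hcon
    obtain ⟨c, a, rfl, hc, ha⟩ := hlab χ hχ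
    obtain ⟨c', a', rfl, hc', ha'⟩ := hlab χ' hχ'
    refine hne (wchar_eq_of_row hψ h2 hc ha (shift_inj hψ fun κ => ?_) fun k hk => ?_)
    · have h1 := hcon ⟨_, hz κ⟩
      simpa only [wchar_zEl] using h1
    · have h1 : 2 * c * a i * a k = 2 * c' * a' i * a' k := shift_inj hψ fun t => by
        have h1 := hcon ⟨_, ho k t hk⟩
        simpa only [wchar_xEl] using h1
      exact mul_left_cancel₀ h2 (by linear_combination h1)
  rw [← hs, map_sum]
  exact L.sum_mem fun χ hχ => by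
    rw [proj_mem ρ χ v S]
    exact L.smul_mem _ (hcomp χ hχ)

/-- The basic step: invariance under a swap. -/
theorem swp_mem_stab (hψ : ψ ≠ 1) (h2 : (2 : F) ≠ 0) (hR : RankOne ρ ψ) {i j : Fin n}
    (hij : i ≠ j) {L : Submodule ℂ V} (hL : L ≤ Mov ρ i)
    (hN : ∀ S, (sRad S : Sp) ∈ stab ρ L) (hT : ∀ t, lev (tvU i j hij t) ∈ stab ρ L) :
    (swp j : Sp) ∈ stab ρ L ∧
      ∀ d : Fˣ, lev (diagU (Function.update 1 j d)) ∈ stab ρ L := by
  let L' : Submodule ℂ V := L.comap (ρ (swp j))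
  have hL' : L' ≤ Mov ρ i := fun v hv => by
    have h1 := hL hv
    rw [mem_Mov] at h1 ⊢
    rw [Finset.sum_congr rfl fun κ _ => by rw [← pi_mul, ← swp_rEl i j hij, pi_mul],
      ← map_sum] at h1
    have h3 := congrArg (ρ (swp j)⁻¹) h1
    rwa [pi_inv_left, map_zero] at h3
  have hN' : ∀ S, (sRad S : Sp) ∈ stab ρ L' := by
    refine sRad_mem_stab_of_row ρ hψ h2 hR hL' (fun κ v hv => ?_) (fun k t hk v hv => ?_)
    · show ρ (swp j) _ ∈ L
      rw [← pi_mul, swp_rEl i j hij, pi_mul]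
      exact hN _ _ hv
    · show ρ (swp j) _ ∈ L
      rcases eq_or_ne k j with rfl | hkj
      · rw [← pi_mul, swp_oEl i k hij, pi_mul]
        exact hT t _ hv
      · rw [← pi_mul, swp_oEl_comm i k j hij hkj, pi_mul]
        exact hN _ _ hv
  have hX : ∀ S, (swp j : Sp) * sRad S * (swp j)⁻¹ ∈ stab ρ L := fun S v hv => by
    rw [pi_mul, pi_mul]
    refine hN' S _ ?_
    show ρ (swp j) _ ∈ L
    rwa [pi_inv_right]
  have hrel : ∀ d : Fˣ, lev (diagU (Function.update 1 j d)) * swp j ∈ stab ρ L := by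
    intro d
    have e : lev (diagU (Function.update 1 j d)) * (swp j : Sp) =
        sRad (𝕫 j (d : F)) * ((swp j : Sp) * sRad (𝕫 j ((d⁻¹ : Fˣ) : F)) * (swp j)⁻¹) *
          (sRad (𝕫 j (-(d : F))))⁻¹ := by
      have h := swp_relation (n := n) j d
      rw [show sRad (𝕫 j (d : F)) * ((swp j : Sp) * sRad (𝕫 j ((d⁻¹ : Fˣ) : F)) * (swp j)⁻¹) *
          (sRad (𝕫 j (-(d : F))))⁻¹ = sRad (𝕫 j (d : F)) * (swp j : Sp) *
            sRad (𝕫 j ((d⁻¹ : Fˣ) : F)) * (swp j)⁻¹ * (sRad (𝕫 j (-(d : F))))⁻¹ by group, h]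
      group
    rw [e]
    exact (stab ρ L).mul_mem ((stab ρ L).mul_mem (hN _) (hX _)) ((stab ρ L).inv_mem (hN _))
  have hw : (swp j : Sp) ∈ stab ρ L := by
    have h := hrel 1
    have e : diagU (Function.update (1 : Fin n → Fˣ) j 1) = (1 : GLn) := Units.ext (by
      rw [coe_diagU]
      simp [Function.update_eq_self_iff])
    rwa [e, map_one, one_mul] at h
  refine ⟨hw, fun d => ?_⟩
  have h := (stab ρ L).mul_mem (hrel d) ((stab ρ L).inv_mem hw)
  rwa [mul_inv_cancel_right] at h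

/-- The root groups in row `k` act trivially on the vectors fixed by the root group of `k`. -/
theorem oEl_fix (hψ : ψ ≠ 1) (hR : RankOne ρ ψ) {k l : Fin n} {t : F} {v : V}
    (hv : v ∈ Fix ρ k) : ρ (sRad (𝕠 k l t)) v = v := by
  conv_rhs => rw [← sum_proj ρ v]
  rw [← sum_proj ρ (ρ (sRad (𝕠 k l t)) v)]
  refine Finset.sum_congr rfl fun χ _ => ?_
  rw [proj_comm ρ (fun S => sRad_comm _ _), proj_mem ρ χ v]
  by_cases h0 : proj ρ χ v = 0
  · rw [h0, smul_zero]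
  obtain ⟨c, a, rfl⟩ := hR χ _ h0 (proj_mem ρ χ v)
  have hm : proj ρ (wchar ψ c a) v ∈ Fix ρ k := by
    rw [proj_apply]
    exact Submodule.smul_mem _ _ (Submodule.sum_mem _ fun T _ => Submodule.smul_mem _ _
      (fix_of_comm ρ (fun κ => sRad_comm _ _) hv))
  have h1 := label_of_Fix ρ hψ h0 (proj_mem ρ _ v) hm
  rw [wchar_xEl]
  have h3 : c = 0 ∨ a k = 0 := by simpa using h1
  rcases h3 with h3 | h3 <;> simp [h3]

end Cfsg.Agent.SimpleFacts.WeilChar
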