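import Mathlib
import Cfsg.Agent.SimpleFacts.WeilChar.Stab

/-!
# The stabiliser of a label acts by scalars on its weight space
-/

set_option autoImplicit false
set_option linter.unusedSectionVars false

namespace Cfsg.Agent.SimpleFacts.WeilChar

open Matrix
open Cfsg.Agent.Classical.SympMinDeg

variable {F : Type*} [Field F] [Fintype F] {n : ℕ}

local notation "Pt" => (Fin n → F)
local notation "Sp" => Matrix.symplecticGroup (Fin n) F
local notation "GLn" => (Matrix (Fin n) (Fin n) F)ˣ
local notation "MatN" => Matrix (Fin n) (Fin n) F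

section Matrices

variable (i : Fin n)

/-- `1 + e_i yᵀ` with `y_i = 0`. -/
def rowU (y : Pt) (hy : y i = 0) : GLn where
  val := 1 + Matrix.vecMulVec (Pi.single i 1) y
  inv := 1 + Matrix.vecMulVec (Pi.single i 1) (-y)
  val_inv := by
    rw [add_mul, mul_add, mul_add, one_mul, mul_one, one_mul, Matrix.vecMulVec_mul_vecMulVec,
      dotProduct_single, hy, zero_mul, zero_smul, Matrix.vecMulVec_zero, add_zero,
      Matrix.vecMulVec_neg]
    abel
  inv_val := by
    rw [add_mul, mul_add, mul_add, one_mul, mul_one, one_mul, Matrix.vecMulVec_mul_vecMulVec,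
      dotProduct_single, Pi.neg_apply, hy, neg_zero, zero_mul, zero_smul, Matrix.vecMulVec_zero,
      add_zero, Matrix.vecMulVec_neg]
    abel

/-- `1 + y e_iᵀ` with `y_i = 0`. -/
def colU (y : Pt) (hy : y i = 0) : GLn where
  val := 1 + Matrix.vecMulVec y (Pi.single i 1)
  inv := 1 + Matrix.vecMulVec (-y) (Pi.single i 1)
  val_inv := by
    rw [add_mul, mul_add, mul_add, one_mul, mul_one, one_mul, Matrix.vecMulVec_mul_vecMulVec,
      single_dotProduct, Pi.neg_apply, hy, neg_zero, mul_zero, zero_smul, Matrix.vecMulVec_zero,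
      add_zero, Matrix.neg_vecMulVec]
    abel
  inv_val := by
    rw [add_mul, mul_add, mul_add, one_mul, mul_one, one_mul, Matrix.vecMulVec_mul_vecMulVec,
      single_dotProduct, hy, mul_zero, zero_smul, Matrix.vecMulVec_zero, add_zero,
      Matrix.neg_vecMulVec]
    abel

theorem act_rowU (y : Pt) (hy : y i = 0) (a : Pt) : act (rowU i y hy) a = a - a i • y := by
  show (1 + Matrix.vecMulVec (Pi.single i (1 : F)) (-y))ᵀ *ᵥ a = _
  rw [Matrix.transpose_add, Matrix.transpose_one, Matrix.transpose_vecMulVec, Matrix.add_mulVec,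
    Matrix.one_mulVec, Matrix.vecMulVec_mulVec, single_dotProduct, one_mul, op_smul_eq_smul,
    smul_neg, sub_eq_add_neg]

theorem tvU_rowU {j : Fin n} (h : i ≠ j) (t : F) (y : Pt) (hy : y i = 0) :
    tvU i j h t * rowU i y hy = rowU i (y + Pi.single j t) (by simp [hy, h]) := by
  refine Units.ext ?_
  have e : Matrix.transvection i j t = 1 + Matrix.vecMulVec (Pi.single i 1) (Pi.single j t) := by
    ext k l
    by_cases hk : k = i
    · by_cases hl : l = j
      · simp [Matrix.transvection, Matrix.vecMulVec_apply, hk, hl]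
      · simp [Matrix.transvection, Matrix.vecMulVec_apply, hk, hl, Ne.symm hl]
    · simp [Matrix.transvection, Matrix.vecMulVec_apply, hk, Ne.symm hk]
  show Matrix.transvection i j t * (1 + Matrix.vecMulVec (Pi.single i 1) y) =
    1 + Matrix.vecMulVec (Pi.single i 1) (y + Pi.single j t)
  rw [e, add_mul, mul_add, mul_add, one_mul, mul_one, one_mul, Matrix.vecMulVec_mul_vecMulVec,
    dotProduct_single, mul_one, Pi.single_eq_of_ne h, zero_smul, Matrix.vecMulVec_zero, add_zero,
    Matrix.vecMulVec_add]
  abel

/-- A block extended by `1` at the index `i`. -/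
def emb (M : Matrix {k // k ≠ i} {k // k ≠ i} F) : MatN :=
  Matrix.of fun k l => if hk : k = i then (if l = i then 1 else 0)
    else if hl : l = i then 0 else M ⟨k, hk⟩ ⟨l, hl⟩

theorem emb_apply_self (M : Matrix {k // k ≠ i} {k // k ≠ i} F) (l : Fin n) :
    emb i M i l = if l = i then 1 else 0 := by simp [emb]

theorem emb_apply_col (M : Matrix {k // k ≠ i} {k // k ≠ i} F) {k : Fin n} (hk : k ≠ i) :
    emb i M k i = 0 := by simp [emb, hk]

theorem emb_apply (M : Matrix {k // k ≠ i} {k // k ≠ i} F) {k l : Fin n} (hk : k ≠ i) (hl : l ≠ i) :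
    emb i M k l = M ⟨k, hk⟩ ⟨l, hl⟩ := by simp [emb, hk, hl]

theorem sum_split (f : Fin n → F) : ∑ k, f k = f i + ∑ k : {k // k ≠ i}, f k := by
  rw [Fintype.sum_eq_add_sum_compl i f]
  congr 1
  exact Finset.sum_subtype _ (fun x => by simp) f

theorem emb_mul (M N : Matrix {k // k ≠ i} {k // k ≠ i} F) : emb i (M * N) = emb i M * emb i N := by
  ext k l
  rw [Matrix.mul_apply, sum_split i]
  by_cases hk : k = i
  · subst hk
    rw [Finset.sum_eq_zero (fun m _ => by rw [emb_apply_self, if_neg m.2, zero_mul]), add_zero,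
      emb_apply_self, emb_apply_self, emb_apply_self, if_pos rfl, one_mul]
  by_cases hl : l = i
  · subst hl
    rw [Finset.sum_eq_zero (fun m _ => by rw [emb_apply_col l N m.2, mul_zero]), add_zero,
      emb_apply_col l _ hk, emb_apply_col l _ hk, zero_mul]
  rw [emb_apply_col i M hk, zero_mul, zero_add, emb_apply i _ hk hl, Matrix.mul_apply]
  exact Finset.sum_congr rfl fun m _ => by rw [emb_apply i M hk m.2, emb_apply i N m.2 hl]

/-- The subgroup generated by the elements fixing the label `e_i`. -/
theorem stab_label_mem {H : Subgroup (Matrix (Fin n) (Fin n) F)ˣ}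
    (hneg : -1 ∈ H)
    (hd : ∀ j, j ≠ i → ∀ d : Fˣ, diagU (Function.update 1 j d) ∈ H)
    (ht : ∀ k j (h : k ≠ j) t, k ≠ i → tvU k j h t ∈ H)
    {P : GLn} (hP : act P (Pi.single i 1) = Pi.single i 1 ∨ act P (Pi.single i 1) = -Pi.single i 1) :
    P ∈ H := by
  suffices h : ∀ Q : GLn, act Q (Pi.single i 1) = Pi.single i 1 → Q ∈ H by
    rcases hP with hP | hP
    · exact h P hP
    · have h1 : -P ∈ H := h (-P) (by
        rw [act_eq_iff, Units.val_neg, Matrix.transpose_neg, Matrix.neg_mulVec, ← Matrix.mulVec_neg]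
        exact (act_eq_iff _ _ _).1 hP)
      have h3 := H.mul_mem hneg h1
      rwa [neg_one_mul, neg_neg] at h3
  intro Q hQ
  have hrow : ∀ l, (Q : MatN) i l = if l = i then 1 else 0 := fun l => by
    have h1 := congrFun ((act_eq_iff _ _ _).1 hQ) l
    rwa [Matrix.mulVec_single_one, Matrix.col_apply, Matrix.transpose_apply, Pi.single_apply] at h1
  -- the column part
  have hcol : ∀ (s : Finset (Fin n)) (y : Pt) (hy : y i = 0), (∀ k, k ∉ s → y k = 0) →
      colU i y hy ∈ H := by
    intro s
    induction s using Finset.induction_on with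
    | empty =>
      intro y hy hs
      have : colU i y hy = 1 := Units.ext (by
        show 1 + Matrix.vecMulVec y _ = 1
        rw [funext fun k => hs k (Finset.notMem_empty k)]
        ext k l
        simp [Matrix.vecMulVec_apply])
      rw [this]
      exact H.one_mem
    | insert a s ha ih =>
      intro y hy hs
      by_cases hai : a = i
      · exact ih y hy fun k hk => if hka : k = a then by rw [hka, hai, hy]
          else hs k (by simp [hka, hk])
      have h1 := ih (Function.update y a 0) (by simp [Ne.symm hai, hy]) fun k hk => by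
        by_cases hka : k = a
        · simp [hka]
        · simp [hka, hs k (by simp [hka, hk])]
      have e : colU i y hy = tvU a i hai (y a) * colU i (Function.update y a 0)
          (by simp [Ne.symm hai, hy]) := by
        refine Units.ext ?_
        show 1 + Matrix.vecMulVec y _ = Matrix.transvection a i (y a) *
          (1 + Matrix.vecMulVec (Function.update y a 0) (Pi.single i 1))
        ext k l
        rw [Matrix.transvection, add_mul, one_mul, Matrix.add_apply, Matrix.add_apply]
        by_cases hka : k = a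
        · subst hka
          simp [Matrix.vecMulVec_apply, Matrix.one_apply, Pi.single_apply, hy, Ne.symm hai,
            mul_ite, @eq_comm _ l]
        · simp [Matrix.vecMulVec_apply, hka]
      rw [e]
      exact H.mul_mem (ht _ _ _ _ hai) h1
  let y : Pt := Function.update (fun k => -((Q : MatN) k i)) i 0
  have hy : y i = 0 := by simp [y]
  have hC := hcol Finset.univ y hy fun k hk => absurd (Finset.mem_univ k) hk
  obtain ⟨R, hR⟩ : ∃ R, R = colU i y hy * Q := ⟨_, rfl⟩
  have hRv : (R : MatN) = (Q : MatN) + Matrix.vecMulVec y ((Q : MatN) i) := by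
    rw [hR, Units.val_mul]
    show (1 + Matrix.vecMulVec y (Pi.single i 1)) * _ = _
    rw [add_mul, one_mul, Matrix.vecMulVec_mul, Matrix.single_one_vecMul]
    rfl
  let M : Matrix {k // k ≠ i} {k // k ≠ i} F := Matrix.of fun k l => (R : MatN) k l
  have hM : (R : MatN) = emb i M := by
    ext k l
    by_cases hk : k = i
    · subst hk
      rw [hRv, emb_apply_self, Matrix.add_apply, Matrix.vecMulVec_apply, hy, zero_mul, add_zero, hrow]
    by_cases hl : l = i
    · subst hl
      rw [hRv, emb_apply_col l _ hk, Matrix.add_apply, Matrix.vecMulVec_apply, hrow, if_pos rfl]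
      simp [y, hk]
    · rw [emb_apply i _ hk hl]
      rfl
  have hdet : M.det ≠ 0 := by
    let N : Matrix {k // k ≠ i} {k // k ≠ i} F := Matrix.of fun k l => (↑R⁻¹ : MatN) k l
    have hMN : M * N = 1 := by
      ext k l
      have h1 := congrFun (congrFun R.mul_inv k.1) l.1
      rw [Matrix.mul_apply, sum_split i, hM, emb_apply_col i M k.2, zero_mul, zero_add,
        Finset.sum_congr rfl (fun m _ => by rw [emb_apply i M k.2 m.2])] at h1
      rw [Matrix.mul_apply, Matrix.one_apply]
      rw [Matrix.one_apply] at h1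
      simpa only [Subtype.ext_iff, N, Matrix.of_apply] using h1
    exact ((Matrix.isUnit_iff_isUnit_det M).1 ⟨⟨M, N, hMN, mul_eq_one_comm.1 hMN⟩, rfl⟩).ne_zero
  have hblock : ∀ U : GLn, (U : MatN) = emb i M → U ∈ H := by
    refine Matrix.diagonal_transvection_induction_of_det_ne_zero
      (fun M => ∀ U : GLn, (U : MatN) = emb i M → U ∈ H) M hdet ?_ ?_ ?_
    · intro D hD U hU
      rw [Matrix.det_diagonal, Finset.prod_ne_zero_iff] at hD
      let d : Fin n → Fˣ := fun k => if hk : k = i then 1 else
        Units.mk0 (D ⟨k, hk⟩) (hD _ (Finset.mem_univ _))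
      have e : U = diagU d := Units.ext (by
        rw [hU, coe_diagU]
        ext k l
        by_cases hk : k = i
        · subst hk
          rw [emb_apply_self, Matrix.diagonal_apply]
          simp [d, eq_comm]
        by_cases hl : l = i
        · subst hl
          rw [emb_apply_col l _ hk, Matrix.diagonal_apply_ne _ hk]
        rw [emb_apply i _ hk hl, Matrix.diagonal_apply, Matrix.diagonal_apply]
        simp [d, hk, Subtype.ext_iff])
      have hprod : ∀ s : Finset (Fin n), diagU (fun k => if k ∈ s then d k else 1) ∈ H := by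
        intro s
        induction s using Finset.induction_on with
        | empty =>
          have : diagU (fun k : Fin n => if k ∈ (∅ : Finset (Fin n)) then d k else 1) = 1 :=
            Units.ext (by rw [coe_diagU]; simp)
          rw [this]; exact H.one_mem
        | insert a s ha ih =>
          have e2 : diagU (fun k => if k ∈ insert a s then d k else 1) =
              diagU (Function.update 1 a (d a)) * diagU (fun k => if k ∈ s then d k else 1) := by
            refine Units.ext ?_
            rw [Units.val_mul, coe_diagU, coe_diagU, coe_diagU, Matrix.diagonal_mul_diagonal]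
            congr 1
            funext k
            by_cases hka : k = a
            · subst hka; simp [ha]
            · simp [hka]
          rw [e2]
          refine H.mul_mem ?_ ih
          by_cases hai : a = i
          · have : diagU (Function.update 1 a (d a)) = 1 := Units.ext (by
              rw [coe_diagU, hai]
              simp [d, Function.update_eq_self_iff])
            rw [this]; exact H.one_mem
          · exact hd a hai _
      have := hprod Finset.univ
      simp only [Finset.mem_univ, if_true] at this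
      rw [e]; exact this
    · intro t U hU
      have hne : t.i.1 ≠ t.j.1 := fun h => t.hij (Subtype.ext h)
      have e : U = tvU t.i.1 t.j.1 hne t.c := Units.ext (by
        rw [hU, coe_tvU]
        ext k l
        rw [Matrix.transvection, Matrix.add_apply, Matrix.one_apply, Matrix.single_apply]
        by_cases hk : k = i
        · subst hk
          rw [emb_apply_self]
          simp [t.i.2, eq_comm]
        by_cases hl : l = i
        · subst hl
          rw [emb_apply_col l _ hk]
          simp [hk, t.j.2]
        rw [emb_apply i _ hk hl]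
        simp [Matrix.TransvectionStruct.toMatrix, Matrix.transvection, Matrix.single_apply,
          Matrix.one_apply, Subtype.ext_iff])
      rw [e]
      exact ht _ _ _ _ t.i.2
    · intro A B hA hB ihA ihB U hU
      have hu : ∀ A : Matrix {k // k ≠ i} {k // k ≠ i} F, A.det ≠ 0 → IsUnit (emb i A) := by
        intro A hA
        obtain ⟨A', hA'⟩ := (Matrix.isUnit_iff_isUnit_det A).2 (isUnit_iff_ne_zero.2 hA)
        have h1 : emb i (1 : Matrix {k // k ≠ i} {k // k ≠ i} F) = 1 := by
          ext k l
          by_cases hk : k = i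
          · subst hk; rw [emb_apply_self, Matrix.one_apply]; simp [eq_comm]
          by_cases hl : l = i
          · subst hl; rw [emb_apply_col l _ hk, Matrix.one_apply_ne hk]
          rw [emb_apply i _ hk hl]
          simp [Matrix.one_apply, Subtype.ext_iff]
        exact ⟨⟨emb i A, emb i (↑A'⁻¹), by rw [← emb_mul, ← hA', Units.mul_inv, h1],
          by rw [← emb_mul, ← hA', Units.inv_mul, h1]⟩, rfl⟩
      obtain ⟨A', hA'⟩ := hu A hA
      obtain ⟨B', hB'⟩ := hu B hB
      have e : U = A' * B' := Units.ext (by rw [hU, Units.val_mul, hA', hB', emb_mul])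
      rw [e]
      exact H.mul_mem (ihA A' hA') (ihB B' hB')
  have hRH := hblock R hM
  rw [hR] at hRH
  have h4 := H.mul_mem (H.inv_mem hC) hRH
  rwa [inv_mul_cancel_left] at h4

end Matrices

section Scalar

variable {V : Type*} [AddCommGroup V] [Module ℂ V]
  (ρ : Representation ℂ (Matrix.symplecticGroup (Fin n) F) V)
variable {ψ : AddChar F ℂ} (hψ : ψ ≠ 1) (h2 : (2 : F) ≠ 0) (hR : RankOne ρ ψ)

include hψ h2 hR in
/-- The part of the stabiliser coming from the Heisenberg structure. -/
theorem eigen_of_row {c : F} (hc : c ≠ 0) {i j : Fin n} (hij : i ≠ j) {u : V}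
    (hu : u ∈ Wt ρ (wchar ψ c (Pi.single i 1))) :
    (∀ d : Fˣ, ρ (lev (diagU (Function.update 1 j d))) u ∈ Submodule.span ℂ {u}) ∧
      ∀ k (h : k ≠ j) t, k ≠ i → ρ (lev (tvU k j h t)) u ∈ Submodule.span ℂ {u} := by
  let s : Set V := {v | ∃ (y : Pt) (hy : y i = 0), v = ρ (lev (rowU i y hy)) u}
  let L := Submodule.span ℂ s
  have hwt : ∀ y hy, ρ (lev (rowU i y hy)) u ∈ Wt ρ (wchar ψ c (Pi.single i 1 - y)) := by
    intro y hy
    have h := lev_mem_Wt ρ ψ hu (rowU i y hy)
    rwa [act_rowU, Pi.single_eq_same, one_smul] at h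
  have hsw : ∀ v ∈ s, ∃ χ, v ∈ Wt ρ χ := by
    rintro v ⟨y, hy, rfl⟩; exact ⟨_, hwt y hy⟩
  have hN : ∀ S, (sRad S : Sp) ∈ stab ρ L := sRad_mem_stab_span ρ hsw
  have hmov : L ≤ Mov ρ i := Submodule.span_le.2 (by
    rintro v ⟨y, hy, rfl⟩
    exact mem_Mov_of ρ hψ hc (by simp [hy]) (hwt y hy))
  have hT : ∀ k (h : i ≠ k) t, lev (tvU i k h t) ∈ stab ρ L := fun k h t =>
    mem_stab_span ρ (by
      rintro v ⟨y, hy, rfl⟩
      refine Submodule.subset_span ⟨y + Pi.single k t, by simp [hy, h], ?_⟩
      rw [← pi_mul, ← map_mul, tvU_rowU])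
  obtain ⟨hw, hD⟩ := swp_mem_stab ρ hψ h2 hR hij hmov hN (hT j hij)
  have hmem : u ∈ L := Submodule.subset_span ⟨0, rfl, by
    have : rowU i (0 : Pt) rfl = 1 := Units.ext (by
      show 1 + Matrix.vecMulVec _ _ = 1
      rw [Matrix.vecMulVec_zero, add_zero])
    rw [this, map_one, map_one]
    rfl⟩
  have key : ∀ P : GLn, lev P ∈ stab ρ L → act P (Pi.single i 1) = Pi.single i 1 →
      ρ (lev P) u ∈ Submodule.span ℂ {u} := by
    intro P hP he
    classical
    have hwP := lev_mem_Wt ρ ψ hu P
    rw [he] at hwP
    have h := proj_span ρ hsw (wchar ψ c (Pi.single i 1)) (hP u hmem)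
    rw [proj_of_mem ρ hwP, if_pos rfl] at h
    refine (Submodule.span_le.2 ?_) h
    rintro x ⟨⟨y, hy, rfl⟩, hx⟩
    by_cases hx0 : ρ (lev (rowU i y hy)) u = 0
    · rw [hx0]; exact Submodule.zero_mem _
    have he2 : wchar ψ c (Pi.single i 1 - y) = wchar ψ c (Pi.single i 1) :=
      DFunLike.ext _ _ fun S =>
        smul_left_injective ℂ hx0 ((hwt y hy S).symm.trans (hx S))
    rcases eq_or_neg_of_wchar_eq hψ h2 hc he2 with e | e
    · obtain rfl : y = 0 := by simpa using e
      have : rowU i (0 : Pt) hy = 1 := Units.ext (by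
        show 1 + Matrix.vecMulVec _ _ = 1
        rw [Matrix.vecMulVec_zero, add_zero])
      rw [this, map_one, map_one]
      exact Submodule.mem_span_singleton_self u
    · exfalso
      have h3 := congrFun e i
      simp only [Pi.sub_apply, Pi.single_eq_same, hy, sub_zero, Pi.neg_apply] at h3
      exact h2 (by linear_combination h3)
  refine ⟨fun d => key _ (hD d) ?_, fun k h t hk => key _ ?_ ?_⟩
  · rw [act_diagU]
    funext k
    by_cases hk : k = i
    · subst hk; simp [hij]
    · simp [hk]
  · rcases eq_or_ne k i with rfl | -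
    · exact absurd rfl hk
    have e : lev (tvU k j h t) = (swp j : Sp) * sRad (oEl t (Pi.single k 1) (Pi.single j 1)) *
        (swp j : Sp)⁻¹ := by
      rw [swp_oEl k j h, mul_inv_cancel_right]
    rw [e]
    exact (stab ρ L).mul_mem ((stab ρ L).mul_mem hw (hN _)) ((stab ρ L).inv_mem hw)
  · rw [act_tvU]
    funext l
    by_cases hl : l = j
    · subst hl; simp [hk]
    · simp [hl]

include hψ h2 hR in
/-- The stabiliser of the label acts by a scalar on each vector of the weight space. -/
theorem eigen_of_stab {c : F} (hc : c ≠ 0) {i : Fin n} {u : V}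
    (hu : u ∈ Wt ρ (wchar ψ c (Pi.single i 1)))
    (hneg : ρ (lev (-1)) u ∈ Submodule.span ℂ {u}) {P : GLn}
    (hP : act P (Pi.single i 1) = Pi.single i 1 ∨ act P (Pi.single i 1) = -Pi.single i 1) :
    ρ (lev P) u ∈ Submodule.span ℂ {u} := by
  rcases eq_or_ne u 0 with rfl | hu0
  · simp
  let H : Subgroup (Matrix (Fin n) (Fin n) F)ˣ := (stab ρ (Submodule.span ℂ {u})).comap lev
  have hin : ∀ Q : GLn, ρ (lev Q) u ∈ Submodule.span ℂ {u} → Q ∈ H := fun Q hQ =>
    mem_stab_span ρ (by rintro v (rfl : v = u); exact hQ)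
  refine (stab_label_mem i (H := H) (hin _ hneg)
    (fun j hj d => hin _ ((eigen_of_row ρ hψ h2 hR hc hj.symm hu).1 d)) (fun k j h t hk => ?_) hP :
    P ∈ H) u (Submodule.mem_span_singleton_self u)
  rcases eq_or_ne j i with rfl | hji
  swap
  · exact hin _ ((eigen_of_row ρ hψ h2 hR hc hji.symm hu).2 k h t hk)
  apply hin
  by_contra hni
  let T : GLn := tvU k j h t
  let D : GLn := diagU (Function.update 1 k (Units.mk0 2 h2))
  have hw : ρ (lev T) u ∈ Wt ρ (wchar ψ c (Pi.single j 1)) := by
    have h1 := lev_mem_Wt ρ ψ hu T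
    have : act T (Pi.single j (1 : F)) = Pi.single j 1 := by
      rw [act_tvU]; funext l
      by_cases hl : l = j
      · subst hl; simp [hk]
      · simp [hl]
    rwa [this] at h1
  have heig : ∀ v ∈ Wt ρ (wchar ψ c (Pi.single j 1)), ∃ r : ℂ, r • v = ρ (lev D) v := fun v hv =>
    Submodule.mem_span_singleton.1 ((eigen_of_row ρ hψ h2 hR hc hk.symm hv).1 _)
  obtain ⟨r₁, h1⟩ := heig u hu
  obtain ⟨r₂, h2'⟩ := heig _ hw
  obtain ⟨r₃, h3⟩ := heig _ (Submodule.add_mem _ hu hw)
  rw [map_add, ← h1, ← h2', smul_add] at h3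
  have h4 : (r₃ - r₁) • u = (r₂ - r₃) • ρ (lev T) u := by
    rw [sub_smul, sub_smul, sub_eq_sub_iff_add_eq_add, h3, add_comm (r₂ • _)]
  have h23 : r₂ = r₃ := by
    by_contra hne
    apply hni
    rw [Submodule.mem_span_singleton]
    refine ⟨(r₂ - r₃)⁻¹ * (r₃ - r₁), ?_⟩
    show _ = ρ (lev T) u
    rw [mul_smul, h4, smul_smul, inv_mul_cancel₀ (sub_ne_zero.2 hne), one_smul]
  have h31 : r₃ = r₁ := by
    rw [h23, sub_self, zero_smul, smul_eq_zero] at h4
    exact sub_eq_zero.1 (h4.resolve_right hu0)
  have hr₁ : r₁ ≠ 0 := by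
    rintro rfl
    rw [zero_smul] at h1
    exact hu0 (by rw [← pi_inv_left ρ (lev D) u, ← h1, map_zero])
  have econj : D * T = T * T * D := by
    refine Units.ext ?_
    simp only [Units.val_mul, D, T, coe_tvU, coe_diagU, Matrix.transvection_mul_transvection_same _ _ h]
    ext a b
    rw [Matrix.diagonal_mul, Matrix.mul_diagonal, Matrix.transvection, Matrix.transvection,
      Matrix.add_apply, Matrix.add_apply, Matrix.one_apply, Matrix.single_apply, Matrix.single_apply]
    by_cases ha : a = k
    · subst ha
      by_cases hb : b = a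
      · subst hb; simp [h.symm]
      · by_cases hbj : b = j
        · subst hbj; simp [h, hb]; ring
        · simp [Ne.symm hb, Ne.symm hbj]
    · by_cases hb : b = a
      · subst hb; simp [Ne.symm ha, ha]
      · simp [Ne.symm ha, Ne.symm hb]
  have h5 : ρ (lev D) (ρ (lev T) u) = ρ (lev T) (ρ (lev T) (ρ (lev D) u)) := by
    rw [← pi_mul, ← pi_mul, ← pi_mul, ← map_mul, ← map_mul, ← map_mul, econj, mul_assoc]
  rw [← h2', ← h1, h23, h31, map_smul, map_smul] at h5
  have h6 := congrArg (ρ (lev T)⁻¹) (smul_right_injective V hr₁ h5)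
  rw [pi_inv_left, pi_inv_left] at h6
  apply hni
  rw [Submodule.mem_span_singleton]
  exact ⟨1, by rw [one_smul]; exact h6⟩

end Scalar

end Cfsg.Agent.SimpleFacts.WeilChar
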