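import Mathlib
import Cfsg.Agent.SimpleFacts.WeilChar.Scalar
import Cfsg.Agent.SimpleFacts.WeilChar.Gen

/-!
# The invariant subspace generated by a weight vector

If all weights of a representation are labelled by vectors, a weight vector generates an invariant
subspace in which its weight space is one-dimensional.
-/

set_option autoImplicit false
set_option linter.unusedSectionVars false

namespace Cfsg.Agent.SimpleFacts.WeilChar

open Matrix
open Cfsg.Agent.Classical.SympMinDeg

variable {F : Type*} [Field F] [Fintype F] {n : ℕ}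

local notation "Pt" => (Fin n → F)
local notation "Sp" => Matrix.symplecticGroup (Fin n) F
local notation "GLn" => (Matrix (Fin n) (Fin n) F)ˣ

variable {V : Type*} [AddCommGroup V] [Module ℂ V]
  (ρ : Representation ℂ (Matrix.symplecticGroup (Fin n) F) V)

/-- The translates of a vector with labels in a set. -/
def orb (u : V) (e : Fin n → F) (s : (Fin n → F) → Prop) : Set V :=
  {v | ∃ P : GLn, s (act P e) ∧ v = ρ (lev P) u}

variable {ψ : AddChar F ℂ} (hψ : ψ ≠ 1) (h2 : (2 : F) ≠ 0) (hR : RankOne ρ ψ)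

include hψ h2 hR in
/-- The main construction. -/
theorem exists_sub {i j : Fin n} (hij : i ≠ j) {c : F} (hc : c ≠ 0) {u : V}
    (hu : u ∈ Wt ρ (wchar ψ c (Pi.single i 1)))
    (hneg : ρ (lev (-1)) u ∈ Submodule.span ℂ {u}) :
    ∃ X : Submodule ℂ V, (∀ g, g ∈ stab ρ X) ∧ u ∈ X ∧
      ∀ v ∈ X, proj ρ (wchar ψ c (Pi.single i 1)) v ∈ Submodule.span ℂ {u} := by
  classical
  let e : Pt := Pi.single i 1
  let χ₀ : AddChar (symm F n) ℂ := wchar ψ c e
  have he0 : e ≠ 0 := fun h => one_ne_zero (α := F) (by simpa [e] using congrFun h i)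
  -- weights of the translates
  have hwt : ∀ P, ρ (lev P) u ∈ Wt ρ (wchar ψ c (act P e)) := fun P => lev_mem_Wt ρ ψ hu P
  have hsw : ∀ s, ∀ v ∈ orb ρ u e s, ∃ χ, v ∈ Wt ρ χ := by
    rintro s v ⟨P, -, rfl⟩; exact ⟨_, hwt P⟩
  have hNst : ∀ s S, (sRad S : Sp) ∈ stab ρ (Submodule.span ℂ (orb ρ u e s)) := fun s S =>
    sRad_mem_stab_span ρ (hsw s) S
  have hLst : ∀ s (Q : GLn), (∀ a, s a → s (act Q a)) →
      lev Q ∈ stab ρ (Submodule.span ℂ (orb ρ u e s)) := fun s Q h =>
    mem_stab_span ρ (by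
      rintro v ⟨P, hP, rfl⟩
      exact Submodule.subset_span ⟨Q * P, by rw [act_mul]; exact h _ hP,
        by rw [map_mul, pi_mul]⟩)
  have hmono : ∀ {s s' : Pt → Prop}, (∀ a, s a → s' a) →
      Submodule.span ℂ (orb ρ u e s) ≤ Submodule.span ℂ (orb ρ u e s') := fun h =>
    Submodule.span_mono (by rintro v ⟨P, hP, rfl⟩; exact ⟨P, h _ hP, rfl⟩)
  have hgen : ∀ P Q : GLn, (act P e = act Q e ∨ act P e = -act Q e) →
      ρ (lev P) u ∈ Submodule.span ℂ {ρ (lev Q) u} := by
    intro P Q h
    have h1 : act (Q⁻¹ * P) e = e ∨ act (Q⁻¹ * P) e = -e := by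
      rcases h with h | h
      · refine Or.inl ?_
        rw [act_mul, h, ← act_mul, inv_mul_cancel, act_one]
      · refine Or.inr ?_
        rw [act_mul, h, act_neg, ← act_mul, inv_mul_cancel, act_one]
    obtain ⟨r, hr⟩ := Submodule.mem_span_singleton.1 (eigen_of_stab ρ hψ h2 hR hc hu hneg h1)
    rw [Submodule.mem_span_singleton]
    refine ⟨r, ?_⟩
    rw [← map_smul, hr, ← pi_mul, ← map_mul, mul_inv_cancel_left]
  -- the subspaces with a non-zero coordinate
  let Kc : Fin n → Submodule ℂ V := fun k => Submodule.span ℂ (orb ρ u e fun a => a k ≠ 0)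
  have hKmov : ∀ k, Kc k ≤ Mov ρ k := fun k => Submodule.span_le.2 (by
    rintro v ⟨P, hP, rfl⟩
    exact mem_Mov_of ρ hψ hc hP (hwt P))
  have hKswp : ∀ k l, k ≠ l → (swp l : Sp) ∈ stab ρ (Kc k) := fun k l hkl =>
    (swp_mem_stab ρ hψ h2 hR hkl (hKmov k) (hNst _) fun t => hLst _ _ fun a ha => by
      rw [act_tvU, Function.update_of_ne hkl]; exact ha).1
  let K : Submodule ℂ V := Submodule.span ℂ (orb ρ u e fun _ => True)
  have hKcK : ∀ k, Kc k ≤ K := fun k => hmono fun a _ => trivial
  have huK : u ∈ K := Submodule.subset_span ⟨1, trivial, by rw [map_one, map_one]; rfl⟩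
  -- the translates of two non-zero coordinates
  let K2 : Submodule ℂ V := Submodule.span ℂ (orb ρ u e fun a => a i ≠ 0 ∧ a j ≠ 0)
  have hK2i : K2 ≤ Kc i := hmono fun a ha => ha.1
  have hK2j : K2 ≤ Kc j := hmono fun a ha => ha.2
  have huS : u ∈ K2 ⊔ K2.map (ρ (swp j)) := by
    by_contra huS
    let d : {t : F // t ≠ 0} → V := fun t => ρ (lev (tvU i j hij t.1)) u
    let D : Submodule ℂ V := Submodule.span ℂ (Set.range d)
    have hact : ∀ t : F, act (tvU i j hij t) e = Function.update e j (-t) := fun t => by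
      rw [act_tvU]; simp [e, hij.symm]
    have hDK : D ≤ K2 := Submodule.span_le.2 (by
      rintro v ⟨t, rfl⟩
      exact Submodule.subset_span ⟨_, ⟨by rw [hact]; simp [e, hij], by rw [hact]; simp [t.2]⟩, rfl⟩)
    have hDfix : ∀ k, k ≠ i → k ≠ j → D ≤ Fix ρ k := fun k hki hkj => Submodule.span_le.2 (by
      rintro v ⟨t, rfl⟩
      refine mem_Fix_of ρ ?_ (hwt _)
      rw [hact]; simp [e, hki, hkj])
    have hDeig : ∀ v ∈ D, ∀ κ, ρ (sRad (rEl κ (Pi.single i 1))) v = ψ (c * κ) • v := by
      intro v hv κ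
      have hle : D ≤ LinearMap.ker (ρ (sRad (rEl κ (Pi.single i 1))) - ψ (c * κ) • 1) := by
        refine Submodule.span_le.2 ?_
        rintro x ⟨t, rfl⟩
        rw [SetLike.mem_coe, LinearMap.mem_ker, LinearMap.sub_apply, sub_eq_zero,
          LinearMap.smul_apply, Module.End.one_apply]
        rw [hwt (tvU i j hij t.1) (rEl κ (Pi.single i 1)), wchar_zEl, hact]
        simp [e, hij, d]
      simpa [LinearMap.sub_apply, sub_eq_zero] using hle hv
    have hwD : (swp j : Sp) ∈ stab ρ D := by
      intro v hv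
      let v' := ρ (swp j) v
      have hv'K : v' ∈ Kc i := hKswp i j hij v (hK2i (hDK hv))
      have hv'fix : ∀ k, k ≠ i → k ≠ j → v' ∈ Fix ρ k := fun k hki hkj =>
        fix_of_comm ρ (fun κ => swp_rEl k j hkj κ) (hDfix k hki hkj hv)
      have hv'eig : ∀ κ, ρ (sRad (rEl κ (Pi.single i 1))) v' = ψ (c * κ) • v' := fun κ => by
        show ρ _ (ρ (swp j) v) = _
        rw [← pi_mul, ← swp_rEl i j hij κ, pi_mul, hDeig v hv κ, map_smul]
      have hcomp : ∀ χ, proj ρ χ v' ∈ D ⊔ Submodule.span ℂ {u} := by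
        intro χ
        by_cases h0 : proj ρ χ v' = 0
        · rw [h0]; exact Submodule.zero_mem _
        refine (Submodule.span_le.2 ?_) (proj_span ρ (hsw _) χ hv'K)
        rintro x ⟨⟨P, hP, rfl⟩, hx⟩
        by_cases hx0 : ρ (lev P) u = 0
        · rw [hx0]; exact Submodule.zero_mem _
        have hχ : wchar ψ c (act P e) = χ :=
          DFunLike.ext _ _ fun S => smul_left_injective ℂ hx0 ((hwt P S).symm.trans (hx S))
        have hlab : proj ρ χ v' ∈ Wt ρ (wchar ψ c (act P e)) := hχ.symm ▸ proj_mem ρ χ v'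
        have hz : ∀ k, k ≠ i → k ≠ j → act P e k = 0 := fun k hki hkj => by
          have h1 := label_of_Fix ρ hψ h0 hlab (by
            rw [proj_apply]
            exact Submodule.smul_mem _ _ (Submodule.sum_mem _ fun T _ => Submodule.smul_mem _ _
              (fix_of_comm ρ (fun κ => sRad_comm _ _) (hv'fix k hki hkj))))
          simpa [hc] using h1
        have hone : act P e i = 1 ∨ act P e i = -1 := by
          have h1 : c * act P e i ^ 2 = c := shift_inj hψ fun κ => by
            refine smul_left_injective ℂ h0 ?_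
            show ψ (c * act P e i ^ 2 * κ) • _ = ψ (c * κ) • _
            rw [← wchar_zEl, ← hlab, ← proj_comm ρ (fun T => sRad_comm _ _), hv'eig, map_smul]
          have h1' : act P e i ^ 2 = 1 := mul_left_cancel₀ hc (by rw [h1, mul_one])
          exact sq_eq_one_iff.1 h1'
        -- compare with the standard labels
        obtain ⟨t, ht⟩ : ∃ t : F, act P e = act (tvU i j hij t) e ∨
            act P e = -act (tvU i j hij t) e := by
          rcases hone with h1 | h1
          · refine ⟨-act P e j, Or.inl (funext fun k => ?_)⟩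
            rw [hact, neg_neg]
            by_cases hkj : k = j
            · subst hkj; simp
            by_cases hki : k = i
            · subst hki; simp [e, hij, h1]
            · simp [e, hkj, hki, hz k hki hkj]
          · refine ⟨act P e j, Or.inr (funext fun k => ?_)⟩
            rw [hact, Pi.neg_apply]
            by_cases hkj : k = j
            · subst hkj; simp
            by_cases hki : k = i
            · subst hki; simp [e, hij, h1]
            · simp [e, hkj, hki, hz k hki hkj]
        have hg := hgen P (tvU i j hij t) ht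
        by_cases ht0 : t = 0
        · refine Submodule.mem_sup_right ?_
          have : tvU i j hij (0 : F) = 1 := Units.ext (by rw [coe_tvU]; simp)
          rw [ht0, this, map_one, map_one] at hg
          exact hg
        · exact Submodule.mem_sup_left ((Submodule.span_singleton_le_iff_mem _ _).2
            (show ρ (lev (tvU i j hij t)) u ∈ D from Submodule.subset_span ⟨⟨t, ht0⟩, rfl⟩) hg)
      have hsum : v' ∈ D ⊔ Submodule.span ℂ {u} := by
        rw [← sum_proj ρ v']
        exact Submodule.sum_mem _ fun χ _ => hcomp χ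
      obtain ⟨x, hx, y, hy, hxy⟩ := Submodule.mem_sup.1 hsum
      obtain ⟨r, rfl⟩ := Submodule.mem_span_singleton.1 hy
      have hru : r • u ∈ K2 ⊔ K2.map (ρ (swp j)) := by
        have : r • u = v' - x := by rw [← hxy, add_sub_cancel_left]
        rw [this]
        exact Submodule.sub_mem _ (Submodule.mem_sup_right ⟨v, hDK hv, rfl⟩)
          (Submodule.mem_sup_left (hDK hx))
      have hr : r = 0 := by
        by_contra hr
        exact huS ((Submodule.smul_mem_iff _ hr).1 hru)
      show v' ∈ D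
      rw [← hxy, hr, zero_smul, add_zero]
      exact hx
    have hDN : ∀ S, (sRad S : Sp) ∈ stab ρ D := sRad_mem_stab_span ρ (by
      rintro v ⟨t, rfl⟩; exact ⟨_, hwt _⟩)
    have hTD : lev (tvU i j hij (-1)) ∈ stab ρ D := by
      have e1 : lev (tvU i j hij (-1 : F)) = (swp j : Sp) *
          sRad (oEl (-1) (Pi.single i 1) (Pi.single j 1)) * (swp j : Sp)⁻¹ := by
        rw [swp_oEl i j hij, mul_inv_cancel_right]
      rw [e1]
      exact (stab ρ D).mul_mem ((stab ρ D).mul_mem hwD (hDN _)) ((stab ρ D).inv_mem hwD)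
    have h1 : ρ (lev (tvU i j hij 1)) u ∈ D := Submodule.subset_span ⟨⟨1, one_ne_zero⟩, rfl⟩
    have h3 := hTD _ h1
    rw [← pi_mul, ← map_mul, ← tvU_add, neg_add_cancel] at h3
    have : tvU i j hij (0 : F) = 1 := Units.ext (by rw [coe_tvU]; simp)
    rw [this, map_one, map_one] at h3
    exact huS (Submodule.mem_sup_left (hDK h3))
  -- the image of the vector under the swap
  let Z : Submodule ℂ V := Wt ρ 1
  have hwu : ρ (swp i) u ∈ K ⊔ Z := by
    let v := ρ (swp i) u
    have hvM : v ∈ Kc j ⊔ (Kc j).map (ρ (swp j)) := by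
      obtain ⟨x, hx, y, hy, hxy⟩ := Submodule.mem_sup.1 huS
      obtain ⟨y, hy', rfl⟩ := hy
      show ρ (swp i) u ∈ _
      rw [← hxy, map_add]
      refine Submodule.add_mem _ (Submodule.mem_sup_left (hKswp j i hij.symm x (hK2j hx)))
        (Submodule.mem_sup_right ⟨ρ (swp i) y, hKswp j i hij.symm y (hK2j hy'), ?_⟩)
      rw [← pi_mul, swp_comm, pi_mul]
    have hvfix : ∀ k, k ≠ i → v ∈ Fix ρ k := fun k hk =>
      fix_of_comm ρ (fun κ => swp_rEl k i hk κ) (mem_Fix_of ρ (by simp [hk]) hu)
    have hKN := hNst (fun _ => True)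
    show v ∈ K ⊔ Z
    rw [← sum_proj ρ v]
    refine Submodule.sum_mem _ fun χ _ => ?_
    by_cases h1 : χ = 1
    · subst h1; exact Submodule.mem_sup_right (proj_mem ρ 1 v)
    by_cases h0 : proj ρ χ v = 0
    · rw [h0]; exact Submodule.zero_mem _
    obtain ⟨c', a, rfl⟩ := hR χ _ h0 (proj_mem ρ χ v)
    have hz : ∀ k, k ≠ i → c' * a k ^ 2 = 0 := fun k hk =>
      label_of_Fix ρ hψ h0 (proj_mem ρ _ v) (by
        rw [proj_apply]
        exact Submodule.smul_mem _ _ (Submodule.sum_mem _ fun T _ => Submodule.smul_mem _ _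
          (fix_of_comm ρ (fun κ => sRad_comm _ _) (hvfix k hk))))
    have hc' : c' ≠ 0 := fun h => h1 (DFunLike.ext _ _ fun S => by simp [wchar_apply, h])
    have ha : a i ≠ 0 := by
      intro h
      apply h1
      have : a = 0 := funext fun k => by
        rcases eq_or_ne k i with rfl | hk
        · exact h
        · simpa [hc'] using hz k hk
      rw [this, wchar_zero]
    refine Submodule.mem_sup_left ?_
    obtain ⟨x, hx, y, hy, hxy⟩ := Submodule.mem_sup.1 hvM
    obtain ⟨y, hy', rfl⟩ := hy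
    show proj ρ (wchar ψ c' a) v ∈ K
    rw [← hxy, map_add]
    refine Submodule.add_mem _ (proj_mem_of_stab ρ hKN _ (hKcK j hx)) ?_
    have hle : Kc j ≤ K.comap ((proj ρ (wchar ψ c' a)).comp (ρ (swp j))) := by
      refine Submodule.span_le.2 ?_
      rintro g ⟨P, hP, rfl⟩
      show proj ρ (wchar ψ c' a) (ρ (swp j) (ρ (lev P) u)) ∈ K
      by_cases hPi : act P e i = 0
      · have hfix : ρ (swp j) (ρ (lev P) u) ∈ Fix ρ i :=
          fix_of_comm ρ (fun κ => swp_rEl i j hij κ) (mem_Fix_of ρ hPi (hwt P))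
        have : proj ρ (wchar ψ c' a) (ρ (swp j) (ρ (lev P) u)) = 0 := by
          by_contra hne
          have h4 := label_of_Fix ρ hψ hne (proj_mem ρ _ _) (by
            rw [proj_apply]
            exact Submodule.smul_mem _ _ (Submodule.sum_mem _ fun T _ => Submodule.smul_mem _ _
              (fix_of_comm ρ (fun κ => sRad_comm _ _) hfix)))
          exact mul_ne_zero hc' (pow_ne_zero 2 ha) h4
        rw [this]
        exact Submodule.zero_mem _
      · exact proj_mem_of_stab ρ hKN _
          (hKcK i (hKswp i j hij _ (Submodule.subset_span ⟨P, hPi, rfl⟩)))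
    exact hle hy'
  -- invariance properties
  have hKlev : ∀ Q : GLn, lev Q ∈ stab ρ K := fun Q => hLst _ _ fun _ _ => trivial
  have hwK : ∀ v ∈ K, ρ (swp i) v ∈ K ⊔ Z := by
    intro v hv
    refine (Submodule.span_le.2 ?_ : K ≤ (K ⊔ Z).comap (ρ (swp i))) hv
    rintro g ⟨P, -, rfl⟩
    rw [SetLike.mem_coe, Submodule.mem_comap]
    by_cases hex : ∃ k, k ≠ i ∧ act P e k ≠ 0
    · obtain ⟨k, hki, hk⟩ := hex
      exact Submodule.mem_sup_left (hKcK k (hKswp k i hki _ (Submodule.subset_span ⟨P, hk, rfl⟩)))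
    push Not at hex
    have hne : act P e i ≠ 0 := by
      intro h
      apply he0
      have h0 : act P e = 0 := funext fun k => by
        rcases eq_or_ne k i with rfl | hk
        · exact h
        · exact hex k hk
      rw [← transpose_act P e, h0, Matrix.mulVec_zero]
    let d : Fin n → Fˣ := Function.update 1 i (Units.mk0 _ hne)⁻¹
    have had : act P e = act (diagU d) e := by
      rw [act_diagU]
      funext k
      rcases eq_or_ne k i with rfl | hk
      · simp [d, e]
      · simp [e, hk, hex k hk]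
    obtain ⟨r, hr⟩ := Submodule.mem_span_singleton.1 (hgen P (diagU d) (Or.inl had))
    rw [← hr, map_smul, ← pi_mul, swp_diagU, pi_mul]
    refine Submodule.smul_mem _ _ ?_
    obtain ⟨x, hx, z, hz, hxz⟩ := Submodule.mem_sup.1 hwu
    rw [← hxz, map_add]
    refine Submodule.add_mem _ (Submodule.mem_sup_left (hKlev _ x hx)) (Submodule.mem_sup_right ?_)
    have := lev_mem_Wt ρ ψ (c := 0) (a := (0 : Pt)) (v := z) (by rw [wchar_zero]; exact hz)
    intro S
    have h5 := this (diagU (Function.update d i (d i)⁻¹)) S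
    rwa [show wchar ψ (0 : F) (act (diagU (Function.update d i (d i)⁻¹)) (0 : Pt)) = 1 from
      DFunLike.ext _ _ fun T => by simp [wchar_apply]] at h5
  let X : Submodule ℂ V := K ⊔ K.map (ρ (swp i))
  have hXZ : X ≤ K ⊔ Z := sup_le le_sup_left (by
    rintro _ ⟨v, hv, rfl⟩; exact hwK v hv)
  have hXK : K ≤ X := le_sup_left
  have hfromK : ∀ g : Sp, g ∈ stab ρ K → (∀ z ∈ Z, ρ g z = z) → g ∈ stab ρ X := by
    intro g hgK hgZ x hx
    obtain ⟨k, hk, z, hz, hkz⟩ := Submodule.mem_sup.1 (hXZ hx)
    have : ρ g x = x + (ρ g k - k) := by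
      rw [← hkz, map_add, hgZ z hz]
      abel
    rw [this]
    exact Submodule.add_mem _ hx (hXK (Submodule.sub_mem _ (hgK k hk) hk))
  have hXN : ∀ S, (sRad S : Sp) ∈ stab ρ X := fun S =>
    hfromK _ (hNst _ S) fun z hz => by rw [hz S, AddChar.one_apply, one_smul]
  have hXw : (swp i : Sp) ∈ stab ρ X := by
    intro x hx
    obtain ⟨k, hk, y, hy, hky⟩ := Submodule.mem_sup.1 hx
    obtain ⟨y, hy', rfl⟩ := hy
    rw [← hky, map_add]
    refine Submodule.add_mem _ (Submodule.mem_sup_right ⟨k, hk, rfl⟩) (Submodule.mem_sup_left ?_)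
    rw [← pi_mul, swp_sq]
    exact hKlev _ _ hy'
  have hXd : ∀ d, lev (diagU d) ∈ stab ρ X := by
    intro d x hx
    obtain ⟨k, hk, y, hy, hky⟩ := Submodule.mem_sup.1 hx
    obtain ⟨y, hy', rfl⟩ := hy
    rw [← hky, map_add]
    refine Submodule.add_mem _ (Submodule.mem_sup_left (hKlev _ k hk)) (Submodule.mem_sup_right
      ⟨_, hKlev (diagU (Function.update d i (d i)⁻¹)) y hy', ?_⟩)
    rw [← pi_mul, swp_diagU, pi_mul]
    simp [Function.update_idem]
  have hXt : ∀ k l (h : k ≠ l) t, lev (tvU k l h t) ∈ stab ρ X := fun k l h t =>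
    hfromK _ (hKlev _) fun z hz => by
      have hzk : z ∈ Fix ρ k := fun κ => by rw [hz, AddChar.one_apply, one_smul]
      have e1 : lev (tvU k l h t) = (swp l : Sp) * sRad (oEl t (Pi.single k 1) (Pi.single l 1)) *
          (swp l : Sp)⁻¹ := by
        rw [swp_oEl k l h, mul_inv_cancel_right]
      rw [e1, pi_mul, pi_mul, oEl_fix ρ hψ hR (fix_of_comm ρ (fun κ => ?_) hzk), pi_inv_right]
      exact (Commute.inv_left (swp_rEl k l h κ)).eq
  refine ⟨X, fun g => gen_top hXN (fun P => ?_) i hXw g, hXK huK, fun v hv => ?_⟩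
  · exact (gl_top (H := (stab ρ X).comap lev) hXd hXt P : P ∈ (stab ρ X).comap lev)
  · obtain ⟨k, hk, z, hz, rfl⟩ := Submodule.mem_sup.1 (hXZ hv)
    have hne1 : χ₀ ≠ 1 := by
      intro h
      have h1 : wchar ψ c e = wchar ψ c 0 := by rw [wchar_zero]; exact h
      rcases eq_or_neg_of_wchar_eq hψ h2 hc h1 with h3 | h3
      · exact he0 h3
      · exact he0 (by simpa using h3)
    rw [map_add, proj_of_mem ρ (χ' := χ₀) hz, if_neg hne1, add_zero]
    refine (Submodule.span_le.2 ?_) (proj_span ρ (hsw _) χ₀ hk)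
    rintro x ⟨⟨P, -, rfl⟩, hx⟩
    by_cases hx0 : ρ (lev P) u = 0
    · rw [hx0]; exact Submodule.zero_mem _
    have h6 : wchar ψ c (act P e) = χ₀ :=
      DFunLike.ext _ _ fun S => smul_left_injective ℂ hx0 ((hwt P S).symm.trans (hx S))
    have h7 := hgen P 1 (by rw [act_one]; exact eq_or_neg_of_wchar_eq hψ h2 hc h6)
    rwa [map_one, map_one, Module.End.one_apply] at h7

end Cfsg.Agent.SimpleFacts.WeilChar
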