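import Mathlib
import Cfsg.Agent.SimpleFacts.WeilChar.Sub
import Cfsg.Agent.SimpleFacts.WeilChar.Forms
import Cfsg.Agent.Lib.Classical.SympMinDeg.Bounds
import Cfsg.Agent.Lib.Characters.Schur

/-!
# The irreducible representations of small degree

Such a representation is determined by the square class of a weight and the value of the central
involution.
-/

set_option autoImplicit false
set_option linter.unusedSectionVars false

namespace Cfsg.Agent.SimpleFacts.WeilChar

open Matrix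
open Cfsg.Agent.Classical.SympMinDeg

variable {F : Type*} [Field F] [Fintype F] {n : ℕ}

local notation "Pt" => (Fin n → F)
local notation "Sp" => Matrix.symplecticGroup (Fin n) F
local notation "GLn" => (Matrix (Fin n) (Fin n) F)ˣ

variable {V : Type*} [AddCommGroup V] [Module ℂ V]
  (ρ : Representation ℂ (Matrix.symplecticGroup (Fin n) F) V)
variable {W : Type*} [AddCommGroup W] [Module ℂ W]
  (σ : Representation ℂ (Matrix.symplecticGroup (Fin n) F) W)
variable {ψ : AddChar F ℂ}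

/-- Small degree forces all weights to be labelled. -/
theorem rankOne_of_lt (hψ : ψ ≠ 1) (h2 : (2 : F) ≠ 0) [FiniteDimensional ℂ V]
    (hd : 2 * (Fintype.card F + 1) * Module.finrank ℂ V <
      (Fintype.card F ^ n - 1) * (Fintype.card F ^ n - Fintype.card F)) : RankOne ρ ψ := by
  classical
  intro χ v hv0 hv
  obtain ⟨Q, hQ⟩ := exists_quad χ hψ
  have hnot : ¬ Forms.Two Q := by
    intro hT
    have hcount := Forms.two_le h2 n (Fin n → F) (by simp) Q hT
    choose e he using fun R : Forms.Orb n Q => R.2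
    have hχ : χ ∈ Cfsg.Agent.KnownSimple.CrossCharDegree.chars (radRep ρ) :=
      ⟨v, hv0, fun S => by rw [radRep_apply]; exact hv S⟩
    have hle := card_le_of_family ρ hχ hψ hQ
      (fun R : Forms.Orb n Q => LinearMap.toMatrix' (e R : (Fin n → F) →ₗ[F] (Fin n → F)))
      (fun R => ⟨⟨LinearMap.toMatrix' (e R : (Fin n → F) →ₗ[F] (Fin n → F)),
        LinearMap.toMatrix' ((e R).symm : (Fin n → F) →ₗ[F] (Fin n → F)),
        by rw [← LinearMap.toMatrix'_comp]; simp, by rw [← LinearMap.toMatrix'_comp]; simp⟩, rfl⟩)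
      (fun R R' h => Subtype.ext (by
        rw [← he R, ← he R']
        funext b
        have hb := h b
        simp only [LinearMap.toMatrix'_mulVec] at hb
        exact hb))
    have := (hcount.trans (Nat.mul_le_mul_left _ hle)).trans_lt' hd
    exact lt_irrefl _ this
  obtain ⟨c, l, hl⟩ := Forms.eq_sq h2 hnot
  refine ⟨c, fun k => l (Pi.single k 1), char_ext fun b κ => ?_⟩
  rw [wchar_rEl, ← rootChar_apply, hQ, AddChar.mulShift_apply, hl]
  have e : (fun k => l (Pi.single k 1)) ⬝ᵥ b = l b := by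
    conv_rhs => rw [← Finset.univ_sum_single b]
    rw [map_sum, dotProduct]
    refine Finset.sum_congr rfl fun k _ => ?_
    have : (Pi.single k (b k) : Fin n → F) = b k • Pi.single k 1 := by
      rw [← Pi.single_smul, smul_eq_mul, mul_one]
    rw [this, map_smul, smul_eq_mul, mul_comm]
  rw [e]

theorem coe_lev_neg_one : ((lev (-1 : GLn) : Sp) : Matrix (Fin n ⊕ Fin n) (Fin n ⊕ Fin n) F) = -1 := by
  rw [coe_lev]
  ext (k | k) (l | l) <;> simp [Matrix.fromBlocks, Matrix.one_apply, @eq_comm _ l k]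

theorem lev_neg_one_comm (g : Sp) : g * lev (-1 : GLn) = lev (-1 : GLn) * g := by
  refine Subtype.ext ?_
  show (g : Matrix (Fin n ⊕ Fin n) (Fin n ⊕ Fin n) F) * _ = _ * _
  rw [coe_lev_neg_one, mul_neg, mul_one, neg_mul, one_mul]

/-- The central involution acts by a sign on an irreducible representation. -/
theorem exists_sign [FiniteDimensional ℂ V] [hρ : ρ.IsIrreducible] :
    ∃ ε : ℂ, (ε = 1 ∨ ε = -1) ∧ ∀ v, ρ (lev (-1 : GLn)) v = ε • v := by
  obtain ⟨ε, hε⟩ := Cfsg.Agent.Characters.schur_scalar ρ (ρ (lev (-1 : GLn))) fun g v => by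
    rw [← pi_mul, ← pi_mul, lev_neg_one_comm]
  have hv : ∀ v, ρ (lev (-1 : GLn)) v = ε • v := fun v => by rw [hε]; rfl
  refine ⟨ε, ?_, hv⟩
  haveI := Cfsg.Agent.Characters.nontrivial_of_isIrreducible ρ
  obtain ⟨v, hv0⟩ := exists_ne (0 : V)
  have h := congrArg (fun g => ρ g v) (show lev (-1 : GLn) * lev (-1 : GLn) = (1 : Sp) by
    rw [← map_mul, neg_mul_neg, one_mul, map_one])
  simp only [pi_mul, hv, map_smul, smul_smul, map_one, Module.End.one_apply] at h
  exact mul_self_eq_one_iff.1 (smul_left_injective ℂ hv0 (h.trans (one_smul ℂ v).symm))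

variable (ψ) in
/-- The square class `d` and the sign `ε` occur. -/
def HasLabel (i : Fin n) (d : F) (ε : ℂ) : Prop :=
  ∃ u, u ≠ 0 ∧ u ∈ Wt ρ (wchar ψ d (Pi.single i 1)) ∧ ρ (lev (-1 : GLn)) u = ε • u

/-- A non-trivial representation with labelled weights has a label in a normal form. -/
theorem exists_label (h2 : (2 : F) ≠ 0) [FiniteDimensional ℂ V] [hρ : ρ.IsIrreducible]
    (hR : RankOne ρ ψ) (hne : ∃ g, ρ g ≠ 1) {ν : F} (hν : ¬ IsSquare ν) (i : Fin n) :
    ∃ d ε, (d = 1 ∨ d = ν) ∧ (ε = 1 ∨ ε = -1) ∧ HasLabel ρ ψ i d ε := by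
  classical
  have hn : 1 ≤ n := Fin.pos i
  obtain ⟨S₀, hS₀⟩ := exists_rad_ne ρ hn hne
  obtain ⟨χ, ⟨v, hv0, hv⟩, hχ0⟩ := exists_weight ρ hS₀
  have hvW : v ∈ Wt ρ χ := fun S => hv S
  obtain ⟨c, a, rfl⟩ := hR χ v hv0 hvW
  have hc : c ≠ 0 := fun h => hχ0 (by simp [wchar_apply, h])
  have ha : a ≠ 0 := fun h => hχ0 (by simp [wchar_apply, h])
  obtain ⟨ε, hε, hεv⟩ := exists_sign ρ
  obtain ⟨d, t, hd, ht, hcd⟩ : ∃ d t : F, (d = 1 ∨ d = ν) ∧ t ≠ 0 ∧ c = d * t ^ 2 := by
    by_cases hsq : IsSquare c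
    · obtain ⟨t, rfl⟩ := hsq
      exact ⟨1, t, Or.inl rfl, left_ne_zero_of_mul hc, by ring⟩
    · have hν0 : ν ≠ 0 := fun h => hν (h ▸ IsSquare.zero)
      have hchar : ringChar F ≠ 2 := fun h => h2 (by
        have := (ringChar.spec F 2).2 (by rw [h])
        exact_mod_cast this)
      have h1 : IsSquare (c / ν) := by
        rw [← quadraticChar_one_iff_isSquare (div_ne_zero hc hν0), div_eq_mul_inv, map_mul]
        have h3 := quadraticChar_neg_one_iff_not_isSquare.2 hsq
        have h4 := quadraticChar_neg_one_iff_not_isSquare.2 hν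
        have h5 : quadraticChar F ν * quadraticChar F ν⁻¹ = 1 := by
          rw [← map_mul, mul_inv_cancel₀ hν0, map_one]
        rw [h4] at h5
        rw [h3]
        omega
      obtain ⟨t, ht⟩ := h1
      refine ⟨ν, t, Or.inr rfl, fun h => div_ne_zero hc hν0 (by rw [ht, h, mul_zero]), ?_⟩
      rw [pow_two, ← ht, mul_div_cancel₀ _ hν0]
  have h1 : v ∈ Wt ρ (wchar ψ d (t • a)) := by rwa [wchar_smul, ← hcd]
  obtain ⟨P, hP⟩ := exists_act (smul_ne_zero ht ha) (b := Pi.single i (1 : F))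
    (fun h => one_ne_zero (α := F) (by simpa using congrFun h i))
  refine ⟨d, ε, hd, hε, ρ (lev P) v, fun h => hv0 ?_, hP ▸ lev_mem_Wt ρ ψ h1 P, hεv _⟩
  rw [← pi_inv_left ρ (lev P) v, h, map_zero]

theorem prod_apply (g : Sp) (x : V × W) : (ρ.prod σ) g x = (ρ g x.1, σ g x.2) := rfl

theorem rankOne_prod (hρ : RankOne ρ ψ) (hσ : RankOne σ ψ) : RankOne (ρ.prod σ) ψ := by
  intro χ x hx hxW
  by_cases h1 : x.1 = 0
  · refine hσ χ x.2 (fun h => hx (Prod.ext h1 h)) fun S => ?_
    exact congrArg Prod.snd (hxW S)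
  · exact hρ χ x.1 h1 fun S => congrArg Prod.fst (hxW S)

/-- Two irreducible representations with the same label are equivalent. -/
theorem equiv_of_label (hψ : ψ ≠ 1) (h2 : (2 : F) ≠ 0) [FiniteDimensional ℂ V]
    [FiniteDimensional ℂ W] [hρi : ρ.IsIrreducible] [hσi : σ.IsIrreducible]
    (hρ : RankOne ρ ψ) (hσ : RankOne σ ψ) {i j : Fin n} (hij : i ≠ j) {d : F} (hd : d ≠ 0)
    {ε : ℂ} (h₁ : HasLabel ρ ψ i d ε) (h₂ : HasLabel σ ψ i d ε) : Nonempty (ρ.Equiv σ) := by
  classical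
  obtain ⟨u, hu0, hu, huε⟩ := h₁
  obtain ⟨w, hw0, hw, hwε⟩ := h₂
  let π := ρ.prod σ
  have hx : ((u, w) : V × W) ∈ Wt π (wchar ψ d (Pi.single i 1)) := fun S => by
    rw [prod_apply]
    exact Prod.ext (hu S) (hw S)
  have hneg : π (lev (-1 : GLn)) (u, w) ∈ Submodule.span ℂ {(u, w)} :=
    Submodule.mem_span_singleton.2 ⟨ε, by rw [prod_apply, huε, hwε]; rfl⟩
  obtain ⟨X, hX, hxX, hproj⟩ := exists_sub π hψ h2 (rankOne_prod ρ σ hρ hσ) hij hd hx hneg
  -- the two kernels are trivial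
  have hk1 : ∀ v : V, (v, (0 : W)) ∈ X → v = 0 := by
    let K : Submodule ℂ V := X.comap (LinearMap.inl ℂ V W)
    have hK : ∀ g : Sp, ∀ v ∈ K, ρ g v ∈ K := fun g v hv => by
      have h := hX g (v, 0) hv
      rw [prod_apply, map_zero] at h
      exact h
    rcases ((Cfsg.Agent.Characters.isIrreducible_iff ρ).1 hρi).2 K hK with h | h
    · exact fun v hv => (Submodule.eq_bot_iff K).1 h v hv
    · exfalso
      have h1 : ((u, 0) : V × W) ∈ X := (h.symm ▸ Submodule.mem_top : u ∈ K)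
      have hm : ((u, 0) : V × W) ∈ Wt π (wchar ψ d (Pi.single i 1)) := fun S => by
        rw [prod_apply]
        exact Prod.ext (hu S) (by simp)
      have h3 := hproj _ h1
      rw [proj_of_mem π hm, if_pos rfl] at h3
      obtain ⟨r, hr⟩ := Submodule.mem_span_singleton.1 h3
      have h4 := congrArg Prod.snd hr
      have h5 := congrArg Prod.fst hr
      simp only [Prod.smul_snd, Prod.smul_fst, smul_eq_zero, hw0, or_false] at h4 h5
      rw [h4, zero_smul] at h5
      exact hu0 h5.symm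
  have hk2 : ∀ v : W, ((0 : V), v) ∈ X → v = 0 := by
    let K : Submodule ℂ W := X.comap (LinearMap.inr ℂ V W)
    have hK : ∀ g : Sp, ∀ v ∈ K, σ g v ∈ K := fun g v hv => by
      have h := hX g (0, v) hv
      rw [prod_apply, map_zero] at h
      exact h
    rcases ((Cfsg.Agent.Characters.isIrreducible_iff σ).1 hσi).2 K hK with h | h
    · exact fun v hv => (Submodule.eq_bot_iff K).1 h v hv
    · exfalso
      have h1 : ((0, w) : V × W) ∈ X := (h.symm ▸ Submodule.mem_top : w ∈ K)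
      have hm : ((0, w) : V × W) ∈ Wt π (wchar ψ d (Pi.single i 1)) := fun S => by
        rw [prod_apply]
        exact Prod.ext (by simp) (hw S)
      have h3 := hproj _ h1
      rw [proj_of_mem π hm, if_pos rfl] at h3
      obtain ⟨r, hr⟩ := Submodule.mem_span_singleton.1 h3
      have h4 := congrArg Prod.fst hr
      have h5 := congrArg Prod.snd hr
      simp only [Prod.smul_snd, Prod.smul_fst, smul_eq_zero, hu0, or_false] at h4 h5
      rw [h4, zero_smul] at h5
      exact hw0 h5.symm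
  let p₁ : X →ₗ[ℂ] V := (LinearMap.fst ℂ V W).comp X.subtype
  let p₂ : X →ₗ[ℂ] W := (LinearMap.snd ℂ V W).comp X.subtype
  have hb1 : Function.Bijective p₁ := by
    refine ⟨fun x y h => ?_, ?_⟩
    · have h1 : (x : V × W).1 = (y : V × W).1 := h
      have h3 := hk2 ((x : V × W).2 - (y : V × W).2) (by
        have h4 := X.sub_mem x.2 y.2
        have e : (x : V × W) - (y : V × W) = (0, (x : V × W).2 - (y : V × W).2) :=
          Prod.ext (by simp [h1]) rfl
        rwa [e] at h4)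
      exact Subtype.ext (Prod.ext h1 (sub_eq_zero.1 h3))
    · have hR : ∀ g : Sp, ∀ v ∈ LinearMap.range p₁, ρ g v ∈ LinearMap.range p₁ := by
        rintro g _ ⟨x, rfl⟩
        exact ⟨⟨π g x, hX g x x.2⟩, rfl⟩
      rcases ((Cfsg.Agent.Characters.isIrreducible_iff ρ).1 hρi).2 _ hR with h | h
      · exact absurd ((Submodule.eq_bot_iff _).1 h u ⟨⟨_, hxX⟩, rfl⟩) hu0
      · exact LinearMap.range_eq_top.1 h
  have hb2 : Function.Bijective p₂ := by
    refine ⟨fun x y h => ?_, ?_⟩
    · have h1 : (x : V × W).2 = (y : V × W).2 := h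
      have h3 := hk1 ((x : V × W).1 - (y : V × W).1) (by
        have h4 := X.sub_mem x.2 y.2
        have e : (x : V × W) - (y : V × W) = ((x : V × W).1 - (y : V × W).1, 0) :=
          Prod.ext rfl (by simp [h1])
        rwa [e] at h4)
      exact Subtype.ext (Prod.ext (sub_eq_zero.1 h3) h1)
    · have hR : ∀ g : Sp, ∀ v ∈ LinearMap.range p₂, σ g v ∈ LinearMap.range p₂ := by
        rintro g _ ⟨x, rfl⟩
        exact ⟨⟨π g x, hX g x x.2⟩, rfl⟩
      rcases ((Cfsg.Agent.Characters.isIrreducible_iff σ).1 hσi).2 _ hR with h | h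
      · exact absurd ((Submodule.eq_bot_iff _).1 h w ⟨⟨_, hxX⟩, rfl⟩) hw0
      · exact LinearMap.range_eq_top.1 h
  refine ⟨Representation.Equiv.mk ((LinearEquiv.ofBijective p₁ hb1).symm.trans
    (LinearEquiv.ofBijective p₂ hb2)) fun g => LinearMap.ext fun v => ?_⟩
  obtain ⟨x, rfl⟩ := hb1.2 v
  have e1 : ρ g (p₁ x) = p₁ ⟨π g x, hX g x x.2⟩ := rfl
  have e2 : σ g (p₂ x) = p₂ ⟨π g x, hX g x x.2⟩ := rfl
  simp only [LinearMap.comp_apply, LinearEquiv.coe_coe, LinearEquiv.trans_apply]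
  have e3 : ∀ y : X, (LinearEquiv.ofBijective p₁ hb1).symm (p₁ y) = y :=
    fun y => (LinearEquiv.ofBijective p₁ hb1).symm_apply_apply y
  rw [e1, e3, e3, LinearEquiv.ofBijective_apply, LinearEquiv.ofBijective_apply, ← e2]

end Cfsg.Agent.SimpleFacts.WeilChar
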