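import Mathlib
import Cfsg.Agent.SimpleFacts.WeilChar.Classify
import Cfsg.Agent.Lib.Classical.SympMinDeg.Weil

/-!
# The two Weil representations attached to a character of the field

They are taken in the form in which the Siegel radical acts by multiplication operators.
-/

set_option autoImplicit false
set_option linter.unusedSectionVars false

namespace Cfsg.Agent.SimpleFacts.WeilChar

open Matrix
open Cfsg.Agent.Forms.SympStd
open Cfsg.Agent.Classical.SympMinDeg
open Cfsg.Agent.Classical.SympMinDeg.Weil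

variable {F : Type*} [Field F] [Fintype F] [DecidableEq F] {n : ℕ}

local notation "Pt" => (Fin n → F)
local notation "Vec" => (Fin n ⊕ Fin n → F)
local notation "Fn" => ((Fin n → F) → ℂ)
local notation "Op" => Matrix (Fin n → F) (Fin n → F) ℂ
local notation "Sp" => Matrix.symplecticGroup (Fin n) F
local notation "MatV" => Matrix (Fin n ⊕ Fin n) (Fin n ⊕ Fin n) F

/-- The standard swap of the two halves. -/
def Jel : Matrix.symplecticGroup (Fin n) F := ⟨Matrix.J (Fin n) F, SymplecticGroup.J_mem _ F⟩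

theorem Jel_mulVec (v : Vec) : ((Jel : Sp) : MatV) *ᵥ v =
    Sum.elim (fun i => -(v (.inr i))) (fun i => v (.inl i)) := J_mulVec v

theorem Jel_conj_sRad (S : symm F n) (v : Vec) :
    ((Jel * sRad S * Jel⁻¹ : Sp) : MatV) *ᵥ v =
      Sum.elim (v ∘ Sum.inl) (v ∘ Sum.inr - (S : Matrix (Fin n) (Fin n) F) *ᵥ (v ∘ Sum.inl)) := by
  have e : ((Jel⁻¹ : Sp) : MatV) *ᵥ v = Sum.elim (v ∘ Sum.inr) (-(v ∘ Sum.inl)) :=
    inv_mulVec_of_eq (by
      rw [Jel_mulVec]
      funext r
      rcases r with r | r <;> simp)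
  rw [mul_mulVec_sp, mul_mulVec_sp, e, Jel_mulVec]
  funext r
  rcases r with r | r
  · simp [sRad_inr]
  · simp [sRad_inl, Matrix.mulVec_neg, sub_eq_add_neg]

variable (φ₀ : AddChar F ℂ)

/-- The multiplication operator of an element of the radical. -/
def mulOp (S : symm F n) : Op := Matrix.diagonal fun a => wchar φ₀ (2⁻¹ : F) a S

theorem mulOp_comm (h2 : (2 : F) ≠ 0) (S : symm F n) (v : Vec) :
    mulOp φ₀ S * heisOp φ₀ v =
      heisOp φ₀ (((Jel * sRad S * Jel⁻¹ : Sp) : MatV) *ᵥ v) * mulOp φ₀ S := by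
  rw [Jel_conj_sRad]
  refine op_ext fun φ a => ?_
  simp only [← Matrix.mulVec_mulVec, mulOp, Matrix.mulVec_diagonal, heisOp_mulVec,
    Sum.elim_comp_inl, Sum.elim_comp_inr, wchar_apply, ← mul_assoc, ← AddChar.map_add_eq_mul]
  congr 2
  set x := v ∘ Sum.inl
  set y := v ∘ Sum.inr
  set M := (S : Matrix (Fin n) (Fin n) F)
  have hsym : x ⬝ᵥ (M *ᵥ a) = a ⬝ᵥ (M *ᵥ x) := by
    have hM : Mᵀ = M := (S.2 : (S : Matrix (Fin n) (Fin n) F)ᵀ = S)
    rw [Matrix.dotProduct_mulVec, ← Matrix.mulVec_transpose, hM, dotProduct_comm]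
  rw [sub_dotProduct, dotProduct_sub, Matrix.mulVec_add, dotProduct_add, add_dotProduct,
    add_dotProduct, hsym, dotProduct_comm (M *ᵥ x) a]
  have h22 : (2 : F)⁻¹ + 2⁻¹ = 1 := by field_simp; norm_num
  linear_combination (-(a ⬝ᵥ (M *ᵥ x))) * h22

theorem wchar_half_inj (hψ : φ₀ ≠ 1) (h2 : (2 : F) ≠ 0) {a b : Pt}
    (h : wchar φ₀ (2⁻¹ : F) a = wchar φ₀ (2⁻¹ : F) b) : a = b ∨ a = -b :=
  eq_or_neg_of_wchar_eq hψ h2 (inv_ne_zero h2) h

/-- The representations: multiplication operators on the radical, irreducible. -/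
theorem exists_models (hψ : φ₀ ≠ 1) (hn : 2 ≤ n) (h2 : (2 : F) ≠ 0) :
    ∃ (σE : Representation ℂ Sp (evenFn (F := F) (n := n)))
      (σO : Representation ℂ Sp (oddFn (F := F) (n := n))),
      (σE.IsIrreducible ∧ ∀ S φ a, ((σE (sRad S) φ).1 : Fn) a = wchar φ₀ (2⁻¹ : F) a S * φ.1 a) ∧
      (σO.IsIrreducible ∧ ∀ S φ a, ((σO (sRad S) φ).1 : Fn) a = wchar φ₀ (2⁻¹ : F) a S * φ.1 a) := by
  classical
  choose W hWu hW using exists_intertwiner (n := n) φ₀ hψ h2
  have uniq : ∀ (g : Sp) (T : Op), (∀ v, T * heisOp φ₀ v = heisOp φ₀ ((g : MatV) *ᵥ v) * T) →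
      ∃ μ : ℂ, T = μ • W g := by
    intro g T hT
    obtain ⟨u, hu⟩ := hWu g
    have hW' : ∀ v : Vec, (↑u⁻¹ : Op) * heisOp φ₀ ((g : MatV) *ᵥ v) = heisOp φ₀ v * (↑u⁻¹ : Op) :=
      fun v => by
        rw [Units.inv_mul_eq_iff_eq_mul, ← mul_assoc, hu, hW, mul_assoc, ← hu, Units.mul_inv, mul_one]
    obtain ⟨μ, hμ⟩ := commutant (T := (↑u⁻¹ : Op) * T) φ₀ hψ fun v => by
      rw [mul_assoc, hT, ← mul_assoc, hW', mul_assoc]
    refine ⟨μ, ?_⟩
    rw [Units.inv_mul_eq_iff_eq_mul, hu, Matrix.mul_smul, Matrix.mul_one] at hμ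
    exact hμ
  have hcomp : ∀ g h : Sp, ∃ α : ℂ, α ≠ 0 ∧ W g * W h = α • W (g * h) := by
    intro g h
    obtain ⟨α, hα⟩ := uniq (g * h) (W g * W h) fun v => by
      rw [mul_assoc, hW, ← mul_assoc, hW, mul_assoc, Matrix.mulVec_mulVec]
      rfl
    refine ⟨α, fun h0 => ?_, hα⟩
    rw [h0, zero_smul] at hα
    exact ((hWu g).mul (hWu h)).ne_zero hα
  have hpar : ∀ g : Sp, W g * parity = parity * W g := by
    have hP : ∀ g : Sp, ∃ μ : ℂˣ, parity * W g * parity = (μ : ℂ) • W g := by
      intro g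
      obtain ⟨μ, hμ⟩ := uniq g (parity * W g * parity) fun v => by
        rw [mul_assoc, parity_heis, ← mul_assoc, mul_assoc parity, hW, ← mul_assoc, parity_heis,
          Matrix.mulVec_neg, neg_neg]
        simp only [mul_assoc]
      refine ⟨Units.mk0 μ fun h0 => ?_, hμ⟩
      rw [h0, zero_smul] at hμ
      have hu : IsUnit (parity : Op) := ⟨⟨parity, parity, parity_sq, parity_sq⟩, rfl⟩
      exact ((hu.mul (hWu g)).mul hu).ne_zero hμ
    choose μ hμ using hP
    have hmul : ∀ g h, μ (g * h) = μ g * μ h := by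
      intro g h
      obtain ⟨α, hα, hgh⟩ := hcomp g h
      apply Units.ext
      have e : parity * (W g * W h) * parity = (parity * W g * parity) * (parity * W h * parity) := by
        simp only [mul_assoc]
        rw [← mul_assoc parity parity, parity_sq, one_mul]
      rw [hμ, hμ, Matrix.smul_mul, Matrix.mul_smul, smul_smul, hgh, Matrix.mul_smul, Matrix.smul_mul,
        hμ, smul_smul, smul_smul] at e
      have h3 := smul_left_injective ℂ (hWu (g * h)).ne_zero e
      rw [Units.val_mul]
      exact mul_left_cancel₀ hα (by linear_combination h3)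
    let μh : Sp →* ℂˣ := MonoidHom.mk' μ hmul
    intro g
    have h1 : μ g = 1 := by
      have : g ∈ μh.ker :=
        (Abelianization.commutator_subset_ker μh) (by rw [perfect hn h2]; exact Subgroup.mem_top g)
      exact this
    have h := hμ g
    rw [h1, Units.val_one, one_smul] at h
    conv_lhs => rw [← h]
    rw [mul_assoc, parity_sq, mul_one]
  have hkeep : ∀ (g : Sp) (ε : ℂ) (φ : Fn), (∀ a, φ (-a) = ε * φ a) →
      ∀ a, (W g *ᵥ φ) (-a) = ε * (W g *ᵥ φ) a := by
    intro g ε φ hφ a
    have e : (parity : Op) *ᵥ φ = ε • φ := funext fun b => by rw [parity_apply, hφ]; rfl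
    rw [← parity_apply (W g *ᵥ φ) a, Matrix.mulVec_mulVec, ← hpar, ← Matrix.mulVec_mulVec, e,
      Matrix.mulVec_smul]
    rfl
  have hkE : ∀ g : Sp, ∀ φ ∈ evenFn (F := F) (n := n), (W g).mulVecLin φ ∈ evenFn (F := F) (n := n) :=
    fun g φ hφ a => by
      have := hkeep g 1 φ (fun b => by rw [one_mul]; exact hφ b) a
      rwa [one_mul] at this
  have hkO : ∀ g : Sp, ∀ φ ∈ oddFn (F := F) (n := n), (W g).mulVecLin φ ∈ oddFn (F := F) (n := n) :=
    fun g φ hφ a => by
      have := hkeep g (-1) φ (fun b => by rw [neg_one_mul]; exact hφ b) a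
      rwa [neg_one_mul] at this
  let E : Sp → Module.End ℂ (evenFn (F := F) (n := n)) := fun g => (W g).mulVecLin.restrict (hkE g)
  let O : Sp → Module.End ℂ (oddFn (F := F) (n := n)) := fun g => (W g).mulVecLin.restrict (hkO g)
  have hinjW : ∀ g, Function.Injective (W g).mulVecLin :=
    fun g => Matrix.mulVec_injective_iff_isUnit.2 (hWu g)
  have hdE : ∀ g, LinearMap.det (E g) ≠ 0 := fun g => by
    refine (IsUnit.map (LinearMap.det (M := evenFn (F := F) (n := n)) (A := ℂ)) ?_).ne_zero
    rw [LinearMap.isUnit_iff_ker_eq_bot, LinearMap.ker_eq_bot]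
    exact fun a b h => Subtype.ext (hinjW g (congrArg Subtype.val h))
  have hdO : ∀ g, LinearMap.det (O g) ≠ 0 := fun g => by
    refine (IsUnit.map (LinearMap.det (M := oddFn (F := F) (n := n)) (A := ℂ)) ?_).ne_zero
    rw [LinearMap.isUnit_iff_ker_eq_bot, LinearMap.ker_eq_bot]
    exact fun a b h => Subtype.ext (hinjW g (congrArg Subtype.val h))
  let c : Sp → ℂ := fun g => LinearMap.det (E g) / LinearMap.det (O g)
  have hc0 : ∀ g, c g ≠ 0 := fun g => div_ne_zero (hdE g) (hdO g)
  obtain ⟨hdimE, hdimO⟩ := finrank_parts (F := F) (n := n) h2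
  -- the linearised operators
  let R : Sp → Op := fun g => (c g)⁻¹ • W g
  have hRu : ∀ g, IsUnit (R g) := fun g => by
    obtain ⟨u, hu⟩ := hWu g
    refine ⟨⟨R g, c g • (↑u⁻¹ : Op), ?_, ?_⟩, rfl⟩
    · rw [show R g = (c g)⁻¹ • (u : Op) by rw [hu], Matrix.smul_mul, Matrix.mul_smul, smul_smul,
        inv_mul_cancel₀ (hc0 g), one_smul, Units.mul_inv]
    · rw [show R g = (c g)⁻¹ • (u : Op) by rw [hu], Matrix.smul_mul, Matrix.mul_smul, smul_smul,
        mul_inv_cancel₀ (hc0 g), one_smul, Units.inv_mul]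
  have hR : ∀ g h, R (g * h) = R g * R h := by
    intro g h
    obtain ⟨α, hα, hgh⟩ := hcomp g h
    have hO : O g * O h = α • O (g * h) := by
      refine LinearMap.ext fun φ => Subtype.ext ?_
      show W g *ᵥ (W h *ᵥ φ.1) = α • (W (g * h) *ᵥ φ.1)
      rw [Matrix.mulVec_mulVec, hgh, Matrix.smul_mulVec]
    have hE : E g * E h = α • E (g * h) := by
      refine LinearMap.ext fun φ => Subtype.ext ?_
      show W g *ᵥ (W h *ᵥ φ.1) = α • (W (g * h) *ᵥ φ.1)
      rw [Matrix.mulVec_mulVec, hgh, Matrix.smul_mulVec]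
    have hcc : c g * c h = α * c (g * h) := by
      have e1 := congrArg LinearMap.det hE
      have e2 := congrArg LinearMap.det hO
      rw [map_mul, LinearMap.det_smul] at e1 e2
      simp only [c]
      rw [div_mul_div_comm, e1, e2, hdimE, hdimO, pow_succ]
      field_simp
    show (c (g * h))⁻¹ • W (g * h) = ((c g)⁻¹ • W g) * ((c h)⁻¹ • W h)
    rw [Matrix.smul_mul, Matrix.mul_smul, smul_smul, hgh, smul_smul, ← mul_inv, hcc]
    congr 1
    field_simp
  have hR1 : R 1 = 1 := by
    have h := hR 1 1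
    rw [mul_one] at h
    exact ((hRu 1).mul_left_cancel (by rw [mul_one]; exact h)).symm
  have hR1' : ∀ φ : Fn, R 1 *ᵥ φ = φ := fun φ => by rw [hR1, Matrix.one_mulVec]
  have hRpar : ∀ g, R g * parity = parity * R g := fun g => by
    show ((c g)⁻¹ • W g) * _ = _ * ((c g)⁻¹ • W g)
    rw [Matrix.smul_mul, Matrix.mul_smul, hpar]
  have hRheis : ∀ g v, R g * heisOp φ₀ v = heisOp φ₀ ((g : MatV) *ᵥ v) * R g := fun g v => by
    show ((c g)⁻¹ • W g) * _ = _ * ((c g)⁻¹ • W g)
    rw [Matrix.smul_mul, Matrix.mul_smul, hW]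
  -- the radical
  have hrad : ∀ S, R (Jel * sRad S * Jel⁻¹) = mulOp φ₀ S := by
    intro S
    obtain ⟨μ, hμ⟩ := uniq (Jel * sRad S * Jel⁻¹) (mulOp φ₀ S) fun v => mulOp_comm φ₀ h2 S v
    obtain ⟨g, hgd⟩ : ∃ g, g = (Jel * sRad S * Jel⁻¹ : Sp) := ⟨_, rfl⟩
    rw [← hgd] at hμ ⊢
    have hμ0 : μ ≠ 0 := by
      rintro rfl
      rw [zero_smul] at hμ
      have := congrFun (congrFun hμ 0) 0
      simp [mulOp, wchar_apply] at this
    -- the two determinants
    let D : Pt → ℂ := fun a => wchar φ₀ (2⁻¹ : F) a S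
    have hDneg : ∀ a, D (-a) = D a := fun a => by simp only [D, wchar_neg]
    have hDE : ∀ φ ∈ evenFn (F := F) (n := n), (fun a => D a * φ a) ∈ evenFn (F := F) (n := n) :=
      fun φ hφ a => by show D (-a) * φ (-a) = _; rw [hDneg, hφ a]
    have hDO : ∀ φ ∈ oddFn (F := F) (n := n), (fun a => D a * φ a) ∈ oddFn (F := F) (n := n) :=
      fun φ hφ a => by show D (-a) * φ (-a) = _; rw [hDneg, hφ a, mul_neg]
    let DE : Module.End ℂ (evenFn (F := F) (n := n)) :=
      { toFun := fun φ => ⟨_, hDE φ.1 φ.2⟩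
        map_add' := fun a b => Subtype.ext (funext fun t => mul_add _ _ _)
        map_smul' := fun r a => Subtype.ext (funext fun t => mul_left_comm _ _ _) }
    let DO : Module.End ℂ (oddFn (F := F) (n := n)) :=
      { toFun := fun φ => ⟨_, hDO φ.1 φ.2⟩
        map_add' := fun a b => Subtype.ext (funext fun t => mul_add _ _ _)
        map_smul' := fun r a => Subtype.ext (funext fun t => mul_left_comm _ _ _) }
    have hWD : ∀ φ : Fn, μ • (W g *ᵥ φ) = fun a => D a * φ a := fun φ => by
      rw [← Matrix.smul_mulVec, ← hμ]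
      funext a
      rw [mulOp, Matrix.mulVec_diagonal]
    have hE : DE = μ • E g := LinearMap.ext fun φ => Subtype.ext (hWD φ.1).symm
    have hO : DO = μ • O g := LinearMap.ext fun φ => Subtype.ext (hWD φ.1).symm
    -- restriction away from zero gives the equality of the determinants
    have hdet : LinearMap.det DE = LinearMap.det DO := by
      let eq₀ : Pt ≃ Fin (Fintype.card Pt) := Fintype.equivFin Pt
      let A : Finset Pt := Finset.univ.filter fun a => eq₀ a < eq₀ (-a)
      have hfix : ∀ a : Pt, -a = a → a = 0 := by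
        intro a ha
        funext i
        have h := congrFun ha i
        simp only [Pi.neg_apply] at h
        have : (2 : F) * a i = 0 := by linear_combination -h
        simpa [h2] using this
      have hA0 : (0 : Pt) ∉ A := by simp [A]
      have hcase : ∀ a : Pt, a ≠ 0 → (a ∈ A ∧ -a ∉ A) ∨ (-a ∈ A ∧ a ∉ A) := fun a ha => by
        rcases lt_trichotomy (eq₀ a) (eq₀ (-a)) with h | h | h
        · left; simp [A, h, h.not_gt]
        · exact absurd (hfix a (eq₀.injective h).symm) ha
        · right; simp [A, h, h.not_gt]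
      let oddB : (A → ℂ) →ₗ[ℂ] oddFn (F := F) (n := n) :=
        { toFun := fun f => ⟨fun a => if h : a ∈ A then f ⟨a, h⟩
              else if h' : -a ∈ A then -f ⟨-a, h'⟩ else 0, fun a => by
            show (if h : -a ∈ A then _ else _) = -(if h : a ∈ A then _ else _)
            by_cases ha : a = 0
            · subst ha; simp [hA0]
            rcases hcase a ha with ⟨h1, h1'⟩ | ⟨h1, h1'⟩ <;> simp [h1, h1']⟩
          map_add' := fun f g => Subtype.ext (funext fun a => by
            simp only [Pi.add_apply, Submodule.coe_add]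
            split_ifs <;> ring)
          map_smul' := fun r f => Subtype.ext (funext fun a => by
            simp only [Pi.smul_apply, smul_eq_mul, Submodule.coe_smul, RingHom.id_apply]
            split_ifs <;> ring) }
      let evB : (ℂ × (A → ℂ)) →ₗ[ℂ] evenFn (F := F) (n := n) :=
        { toFun := fun f => ⟨fun a => if h : a ∈ A then f.2 ⟨a, h⟩
              else if h' : -a ∈ A then f.2 ⟨-a, h'⟩ else f.1, fun a => by
            show (if h : -a ∈ A then _ else _) = (if h : a ∈ A then _ else _)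
            by_cases ha : a = 0
            · subst ha; simp [hA0]
            rcases hcase a ha with ⟨h1, h1'⟩ | ⟨h1, h1'⟩ <;> simp [h1, h1']⟩
          map_add' := fun f g => Subtype.ext (funext fun a => by
            simp only [Prod.fst_add, Prod.snd_add, Pi.add_apply, Submodule.coe_add]
            split_ifs <;> ring)
          map_smul' := fun r f => Subtype.ext (funext fun a => by
            simp only [Prod.smul_fst, Prod.smul_snd, Pi.smul_apply, smul_eq_mul, Submodule.coe_smul,
              RingHom.id_apply]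
            split_ifs <;> ring) }
      have hOb : Function.Bijective oddB := by
        refine ⟨fun f g h => funext fun ⟨a, ha⟩ => ?_, fun φ => ⟨fun a => φ.1 a.1, ?_⟩⟩
        · have := congrFun (congrArg Subtype.val h) a
          simpa [oddB, ha] using this
        · refine Subtype.ext (funext fun a => ?_)
          show (if h : a ∈ A then _ else _) = φ.1 a
          by_cases ha : a = 0
          · subst ha
            have hz := φ.2 0
            rw [neg_zero] at hz
            simp only [hA0, dite_false, neg_zero]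
            linear_combination (-(1 / 2 : ℂ)) * hz
          rcases hcase a ha with ⟨h1, h1'⟩ | ⟨h1, h1'⟩
          · simp [h1]
          · simp [h1, h1', φ.2 a]
      have hEb : Function.Bijective evB := by
        refine ⟨fun f g h => Prod.ext ?_ (funext fun ⟨a, ha⟩ => ?_),
          fun φ => ⟨(φ.1 0, fun a => φ.1 a.1), ?_⟩⟩
        · have := congrFun (congrArg Subtype.val h) 0
          simpa [evB, hA0] using this
        · have := congrFun (congrArg Subtype.val h) a
          simpa [evB, ha] using this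
        · refine Subtype.ext (funext fun a => ?_)
          show (if h : a ∈ A then _ else _) = φ.1 a
          by_cases ha : a = 0
          · subst ha; simp [hA0]
          rcases hcase a ha with ⟨h1, h1'⟩ | ⟨h1, h1'⟩
          · simp [h1]
          · simp [h1, h1', φ.2 a]
      let MA : Module.End ℂ (A → ℂ) :=
        { toFun := fun f a => D a.1 * f a
          map_add' := fun f g => funext fun a => mul_add _ _ _
          map_smul' := fun r f => funext fun a => mul_left_comm _ _ _ }
      have eO : DO = (LinearEquiv.ofBijective oddB hOb).conj MA := by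
        refine LinearMap.ext fun φ => ?_
        obtain ⟨f, rfl⟩ := hOb.2 φ
        rw [LinearEquiv.conj_apply_apply]
        have : (LinearEquiv.ofBijective oddB hOb).symm (oddB f) = f :=
          (LinearEquiv.ofBijective oddB hOb).symm_apply_apply f
        rw [this, LinearEquiv.ofBijective_apply]
        refine Subtype.ext (funext fun a => ?_)
        show D a * (if h : a ∈ A then _ else _) = if h : a ∈ A then _ else _
        by_cases h : a ∈ A
        · simp [h, MA]
        by_cases h' : -a ∈ A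
        · simp [h, h', MA, hDneg]
        · simp [h, h']
      have eE : DE = (LinearEquiv.ofBijective evB hEb).conj (LinearMap.prodMap LinearMap.id MA) := by
        refine LinearMap.ext fun φ => ?_
        obtain ⟨f, rfl⟩ := hEb.2 φ
        rw [LinearEquiv.conj_apply_apply]
        have : (LinearEquiv.ofBijective evB hEb).symm (evB f) = f :=
          (LinearEquiv.ofBijective evB hEb).symm_apply_apply f
        rw [this, LinearEquiv.ofBijective_apply]
        refine Subtype.ext (funext fun a => ?_)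
        show D a * (if h : a ∈ A then _ else _) = if h : a ∈ A then _ else _
        by_cases h : a ∈ A
        · simp [h, MA]
        by_cases h' : -a ∈ A
        · simp [h, h', MA, hDneg]
        · have ha : a = 0 := by
            by_contra ha
            rcases hcase a ha with ⟨h1, -⟩ | ⟨h1, -⟩
            · exact h h1
            · exact h' h1
          subst ha
          simp [hA0, D, wchar_apply]
      rw [eO, eE]
      simp only [LinearEquiv.conj_apply, ← LinearMap.comp_assoc]
      rw [LinearMap.comp_assoc, LinearMap.det_conj, LinearMap.comp_assoc, LinearMap.det_conj,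
        LinearMap.det_prodMap, LinearMap.det_id, one_mul]
    rw [hE, hO, LinearMap.det_smul, LinearMap.det_smul, hdimE, hdimO, pow_succ] at hdet
    have hcμ : μ * c g = 1 := by
      have h0 := hdO g
      simp only [c]
      rw [mul_div_assoc', div_eq_one_iff_eq h0]
      refine mul_left_cancel₀ (pow_ne_zero ((Fintype.card F ^ n - 1) / 2) hμ0) ?_
      rw [← hdet]; ring
    show (c g)⁻¹ • W g = _
    rw [hμ]
    congr 1
    exact inv_eq_of_mul_eq_one_left hcμ
  -- the two representations
  have hkeepR : ∀ (g : Sp) (ε : ℂ) (φ : Fn), (∀ a, φ (-a) = ε * φ a) →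
      ∀ a, (R g *ᵥ φ) (-a) = ε * (R g *ᵥ φ) a := by
    intro g ε φ hφ a
    show (((c g)⁻¹ • W g) *ᵥ φ) (-a) = ε * (((c g)⁻¹ • W g) *ᵥ φ) a
    rw [Matrix.smul_mulVec, Pi.smul_apply, Pi.smul_apply, hkeep g ε φ hφ, smul_eq_mul, smul_eq_mul]
    ring
  have build : ∀ (ε : ℂ) (P : Submodule ℂ Fn), (∀ φ, φ ∈ P ↔ ∀ a, φ (-a) = ε * φ a) →
      (ε = -1 ∨ ε = 1) →
      ∃ σ : Representation ℂ Sp P, σ.IsIrreducible ∧
        ∀ S φ a, ((σ (sRad S) φ).1 : Fn) a = wchar φ₀ (2⁻¹ : F) a S * φ.1 a := by
    intro ε P hP hε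
    have hmem : ∀ g, ∀ φ ∈ P, (R g).mulVecLin φ ∈ P := fun g φ hφ =>
      (hP _).2 (hkeepR g ε φ ((hP φ).1 hφ))
    let σ : Representation ℂ Sp P :=
      { toFun := fun g => (R (Jel * g * Jel⁻¹)).mulVecLin.restrict (hmem _)
        map_one' := LinearMap.ext fun φ => Subtype.ext (by
          show R (Jel * 1 * Jel⁻¹) *ᵥ φ.1 = φ.1
          rw [mul_one, mul_inv_cancel, hR1'])
        map_mul' := fun g h => LinearMap.ext fun φ => Subtype.ext (by
          show R (Jel * (g * h) * Jel⁻¹) *ᵥ φ.1 =
            R (Jel * g * Jel⁻¹) *ᵥ (R (Jel * h * Jel⁻¹) *ᵥ φ.1)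
          rw [Matrix.mulVec_mulVec, ← hR]
          congr 2
          group) }
    have hσ : ∀ S φ a, ((σ (sRad S) φ).1 : Fn) a = wchar φ₀ (2⁻¹ : F) a S * φ.1 a := by
      intro S φ a
      show (R (Jel * sRad S * Jel⁻¹) *ᵥ φ.1) a = _
      rw [hrad, mulOp, Matrix.mulVec_diagonal]
    refine ⟨σ, (Cfsg.Agent.Characters.isIrreducible_iff σ).2 ⟨?_, fun U hU => ?_⟩, hσ⟩
    · let i₀ : Fin n := ⟨0, by omega⟩
      let e : Pt := Pi.single i₀ 1
      have hee : e ≠ -e := fun h => h2 (by
        have := congrFun h i₀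
        simp [e] at this
        linear_combination this)
      refine ⟨⟨⟨Pi.single e 1 + Pi.single (-e) ε, (hP _).2 fun a => ?_⟩, 0, fun h => ?_⟩⟩
      · simp only [Pi.add_apply, Pi.single_apply, neg_eq_iff_eq_neg, neg_neg]
        rcases hε with rfl | rfl <;> split_ifs <;> ring
      · have := congrFun (congrArg Subtype.val h) e
        simp [hee] at this
    -- weight vectors are supported on one pair
    have hsupp : ∀ χ, ∀ φ ∈ Wt σ χ, ∀ a, φ.1 a ≠ 0 → χ = wchar φ₀ (2⁻¹ : F) a := by
      intro χ φ hφ a ha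
      refine DFunLike.ext _ _ fun S => ?_
      have h1 := congrFun (congrArg Subtype.val (hφ S)) a
      rw [hσ] at h1
      simp only [Submodule.coe_smul, Pi.smul_apply, smul_eq_mul] at h1
      exact (mul_right_cancel₀ ha h1).symm
    have hline : ∀ χ (φ φ' : P), φ ∈ Wt σ χ → φ' ∈ Wt σ χ → ∀ a, a ≠ 0 → φ'.1 a ≠ 0 →
        φ = (φ.1 a / φ'.1 a) • φ' := by
      intro χ φ φ' hφ hφ' a ha0 ha
      refine Subtype.ext (funext fun b => ?_)
      rw [Submodule.coe_smul, Pi.smul_apply, smul_eq_mul]
      have hb : (φ.1 b ≠ 0 ∨ φ'.1 b ≠ 0) → b = a ∨ b = -a := by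
        intro hor
        refine wchar_half_inj φ₀ hψ h2 ?_
        rw [← hsupp χ φ' hφ' a ha]
        rcases hor with h | h
        · exact (hsupp χ φ hφ b h).symm
        · exact (hsupp χ φ' hφ' b h).symm
      by_cases hor : φ.1 b ≠ 0 ∨ φ'.1 b ≠ 0
      · rcases hb hor with rfl | rfl
        · rw [div_mul_cancel₀ _ ha]
        · rw [(hP _).1 φ.2 a, (hP _).1 φ'.2 a]
          field_simp
      · push Not at hor
        rw [hor.1, hor.2, mul_zero]
    have hUN : ∀ S, (sRad S : Sp) ∈ stab σ U := fun S v hv => hU _ v hv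
    by_cases hne : ∃ φ ∈ U, ∃ a, a ≠ 0 ∧ φ.1 a ≠ 0
    · -- `U` contains all functions vanishing at zero
      obtain ⟨φ, hφU, a, ha0, ha⟩ := hne
      obtain ⟨χ, hχ⟩ : ∃ χ, (proj σ χ φ).1 a ≠ 0 := by
        by_contra hall
        push Not at hall
        apply ha
        have := congrArg (fun x : P => x.1 a) (sum_proj σ φ)
        simp only [AddSubmonoidClass.coe_finsetSum, Finset.sum_apply, hall, Finset.sum_const_zero] at this
        exact this.symm
      have hχa := hsupp χ _ (proj_mem σ χ φ) a hχ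
      subst hχa
      have hsub : ∀ θ : P, θ.1 0 = 0 → θ ∈ U := by
        intro θ hθ
        rw [← sum_proj σ θ]
        refine U.sum_mem fun χ' _ => ?_
        by_cases h0 : proj σ χ' θ = 0
        · rw [h0]; exact U.zero_mem
        obtain ⟨b, hb⟩ : ∃ b, (proj σ χ' θ).1 b ≠ 0 := Function.ne_iff.1 fun h => h0 (Subtype.ext h)
        have hb0 : b ≠ 0 := by
          rintro rfl
          apply hb
          rw [proj_apply]
          simp only [Submodule.coe_smul, AddSubmonoidClass.coe_finsetSum, Pi.smul_apply,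
            Finset.sum_apply, hσ, hθ, smul_eq_mul, mul_zero, Finset.sum_const_zero]
        have hχb := hsupp χ' _ (proj_mem σ χ' θ) b hb
        obtain ⟨Pg, hPg⟩ := exists_act ha0 hb0
        have hψ' := lev_mem_Wt σ φ₀ (c := (2⁻¹ : F)) (a := a) (proj_mem σ (wchar φ₀ (2⁻¹ : F) a) φ) Pg
        rw [hPg, ← hχb] at hψ'
        have hmemU : σ (lev Pg) (proj σ (wchar φ₀ (2⁻¹ : F) a) φ) ∈ U :=
          hU _ _ (proj_mem_of_stab σ hUN _ hφU)
        have hnz : σ (lev Pg) (proj σ (wchar φ₀ (2⁻¹ : F) a) φ) ≠ 0 := fun h => hχ (by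
          rw [← pi_inv_left σ (lev Pg) (proj σ (wchar φ₀ (2⁻¹ : F) a) φ), h, map_zero]
          rfl)
        obtain ⟨x, hx⟩ := Function.ne_iff.1 fun h => hnz (Subtype.ext h)
        have hx0 : x ≠ 0 := by
          rintro rfl
          have h1 := hsupp χ' _ hψ' 0 hx
          rw [hχb] at h1
          rcases wchar_half_inj φ₀ hψ h2 h1 with h3 | h3
          · exact hb0 h3
          · exact hb0 (by simpa using h3)
        rw [hline χ' _ _ (proj_mem σ χ' θ) hψ' x hx0 hx]
        exact U.smul_mem _ hmemU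
      by_cases h0 : ∃ θ ∈ U, θ.1 0 ≠ 0
      · obtain ⟨θ, hθU, hθ⟩ := h0
        refine Or.inr (Submodule.eq_top_iff'.2 fun η => ?_)
        have e : η = (η.1 0 / θ.1 0) • θ + (η - (η.1 0 / θ.1 0) • θ) := by abel
        rw [e]
        refine U.add_mem (U.smul_mem _ hθU) (hsub _ ?_)
        simp [div_mul_cancel₀ _ hθ]
      push Not at h0
      rcases hε with rfl | rfl
      · refine Or.inr (Submodule.eq_top_iff'.2 fun η => hsub η ?_)
        have hz := (hP _).1 η.2 0
        rw [neg_zero] at hz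
        linear_combination (1 / 2 : ℂ) * hz
      exfalso
      -- evaluation at zero would be a relative invariant
      let ev : P := ⟨Pi.single 0 1, (hP _).2 fun b => by
        simp only [Pi.single_apply, neg_eq_zero, one_mul]⟩
      let r : ℂ := (R Jel *ᵥ (Pi.single 0 1 : Fn)) 0
      have hRJ : ∀ θ : P, (R Jel *ᵥ θ.1) 0 = r * θ.1 0 := fun θ => by
        have h1 : θ - θ.1 0 • ev ∈ U := hsub _ (by simp [ev])
        have h3 := h0 _ (hU Jel _ h1)
        have e3 : ((σ Jel (θ - θ.1 0 • ev)).1 : Fn) = R Jel *ᵥ (θ.1 - θ.1 0 • Pi.single 0 1) := by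
          show R (Jel * Jel * Jel⁻¹) *ᵥ _ = _
          rw [mul_inv_cancel_right]
          rfl
        rw [e3, Matrix.mulVec_sub, Matrix.mulVec_smul, Pi.sub_apply, Pi.smul_apply, smul_eq_mul,
          sub_eq_zero] at h3
        rw [h3, mul_comm]
      have hodd0 : ∀ φ : Fn, (∀ b, φ (-b) = -φ b) → (R Jel *ᵥ φ) 0 = 0 := fun φ hφ => by
        have h3 := hkeepR Jel (-1) φ (fun b => by rw [neg_one_mul]; exact hφ b) 0
        rw [neg_zero] at h3
        linear_combination (1 / 2 : ℂ) * h3
      have hall : ∀ φ : Fn, (R Jel *ᵥ φ) 0 = r * φ 0 := fun φ => by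
        let pe : Fn := fun b => (φ b + φ (-b)) / 2
        let po : Fn := fun b => (φ b - φ (-b)) / 2
        have e : φ = pe + po := funext fun b => by simp only [pe, po, Pi.add_apply]; ring
        have hpe := hRJ ⟨pe, (hP _).2 fun b => by simp only [pe, neg_neg, one_mul]; ring⟩
        have hpo := hodd0 po fun b => by simp only [po, neg_neg]; ring
        rw [e, Matrix.mulVec_add, Pi.add_apply, hpe, hpo, add_zero]
        simp [pe, po]
      obtain ⟨u, hu⟩ := hRu Jel
      let φ : Fn := (↑u⁻¹ : Op) *ᵥ Pi.single 0 1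
      have hφ : R Jel *ᵥ φ = Pi.single 0 1 := by
        simp only [φ]
        rw [Matrix.mulVec_mulVec, ← hu, Units.mul_inv, Matrix.one_mulVec]
      let y : Pt := Pi.single ⟨0, by omega⟩ 1
      have hy : y ≠ 0 := fun h => one_ne_zero (α := F) (by simpa [y] using congrFun h ⟨0, by omega⟩)
      have h4 : ∀ t : Pt, (R Jel *ᵥ φ) (-t) = r * φ 0 := fun t => by
        have h5 := congrFun (congrArg (· *ᵥ φ) (hRheis Jel (Sum.elim 0 t))) 0
        simp only [← Matrix.mulVec_mulVec, hall] at h5
        rw [Jel_mulVec, heisOp_mulVec, heisOp_mulVec] at h5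
        have e1 : (Sum.elim (fun i => -(Sum.elim (0 : Pt) t (Sum.inr i)))
            fun i => Sum.elim (0 : Pt) t (Sum.inl i)) ∘ Sum.inl = -t := rfl
        have e2 : (Sum.elim (fun i => -(Sum.elim (0 : Pt) t (Sum.inr i)))
            fun i => Sum.elim (0 : Pt) t (Sum.inl i)) ∘ Sum.inr = 0 := rfl
        rw [e1, e2] at h5
        simpa using h5.symm
      have h6 := h4 0
      have h7 := h4 y
      rw [hφ] at h6 h7
      rw [← h6] at h7
      simp [hy] at h7
    · -- `U` is supported at zero
      push Not at hne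
      by_cases hU0 : U = ⊥
      · exact Or.inl hU0
      obtain ⟨φ, hφU, hφ0⟩ := Submodule.exists_mem_ne_zero_of_ne_bot hU0
      have hφe : φ.1 = φ.1 0 • (Pi.single 0 1 : Fn) := by
        funext b
        by_cases hb : b = 0
        · subst hb; simp
        · rw [hne φ hφU b hb]; simp [hb]
      have hφ00 : φ.1 0 ≠ 0 := fun h => hφ0 (Subtype.ext (by rw [hφe, h, zero_smul]; rfl))
      exfalso
      let y : Pt := Pi.single ⟨0, by omega⟩ 1
      have hy : y ≠ 0 := fun h => one_ne_zero (α := F) (by simpa [y] using congrFun h ⟨0, by omega⟩)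
      obtain ⟨ξ, hξ⟩ : ∃ ξ : Fn, ξ = R Jel *ᵥ φ.1 := ⟨_, rfl⟩
      have hξU : ∀ b, b ≠ 0 → ξ b = 0 := fun b hb => by
        have h1 := hne _ (hU Jel φ hφU) b hb
        have e : ((σ Jel φ).1 : Fn) = ξ := by
          rw [hξ]; show R (Jel * Jel * Jel⁻¹) *ᵥ φ.1 = _; rw [mul_inv_cancel_right]
        rwa [e] at h1
      have h5 := congrFun (congrArg (· *ᵥ φ.1) (hRheis Jel (Sum.elim 0 y))) 0
      simp only [← Matrix.mulVec_mulVec] at h5
      have e3 : heisOp φ₀ (Sum.elim 0 y) *ᵥ φ.1 = φ.1 := by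
        rw [hφe]
        funext b
        rw [heisOp_mulVec, Sum.elim_comp_inl, Sum.elim_comp_inr]
        by_cases hb : b = 0
        · subst hb; simp
        · simp [hb]
      rw [e3, ← hξ, Jel_mulVec, heisOp_mulVec] at h5
      have e1 : (Sum.elim (fun i => -(Sum.elim (0 : Pt) y (Sum.inr i)))
          fun i => Sum.elim (0 : Pt) y (Sum.inl i)) ∘ Sum.inl = -y := rfl
      have e2 : (Sum.elim (fun i => -(Sum.elim (0 : Pt) y (Sum.inr i)))
          fun i => Sum.elim (0 : Pt) y (Sum.inl i)) ∘ Sum.inr = 0 := rfl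
      rw [e1, e2, zero_add, hξU (-y) (neg_ne_zero.2 hy), mul_zero] at h5
      have hξ0 : ξ = 0 := funext fun b => by
        by_cases hb : b = 0
        · subst hb; exact h5
        · exact hξU b hb
      have h8 := Matrix.mulVec_injective_iff_isUnit.2 (hRu Jel)
        ((hξ.symm.trans hξ0).trans (Matrix.mulVec_zero _).symm)
      exact hφ0 (Subtype.ext h8)
  obtain ⟨σE, hE⟩ := build 1 (evenFn (F := F) (n := n))
    (fun φ => ⟨fun h a => by rw [one_mul]; exact h a, fun h a => by simpa using h a⟩) (Or.inr rfl)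
  obtain ⟨σO, hO⟩ := build (-1) (oddFn (F := F) (n := n))
    (fun φ => ⟨fun h a => by rw [neg_one_mul]; exact h a, fun h a => by simpa using h a⟩) (Or.inl rfl)
  exact ⟨σE, σO, hE, hO⟩

end Cfsg.Agent.SimpleFacts.WeilChar
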