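import Mathlib
import Cfsg.Agent.SimpleFacts.WeilChar.Models
import Cfsg.Agent.Lib.Characters.Kernel

/-!
# The Weil characters of the symplectic groups of odd characteristic
-/

set_option autoImplicit false
set_option linter.unusedSectionVars false

namespace Cfsg.Agent.SimpleFacts.WeilChar

open Matrix
open Cfsg.Agent.Classical.SympMinDeg
open Cfsg.Agent.Classical.SympMinDeg.Weil

variable {F : Type*} [Field F] [Fintype F] {n : ℕ}

local notation "Pt" => (Fin n → F)
local notation "Sp" => Matrix.symplecticGroup (Fin n) F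

theorem finrank_of_char {V : Type*} [AddCommGroup V] [Module ℂ V] [FiniteDimensional ℂ V]
    (ρ : Representation ℂ (Matrix.symplecticGroup (Fin n) F) V) {k : ℕ}
    (h : ρ.character 1 = (k : ℂ)) : Module.finrank ℂ V = k := by
  rw [ρ.char_one] at h
  exact_mod_cast h

theorem weil_characters (hodd : Odd (Fintype.card F)) (hn : 2 ≤ n) :
    Nat.card {χ : Cfsg.IrrCharacter ↥(Matrix.symplecticGroup (Fin n) F) //
      (χ : ↥(Matrix.symplecticGroup (Fin n) F) → ℂ) 1 = (((Fintype.card F) ^ n + 1 : ℕ) : ℂ) / 2} = 2 ∧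
    Nat.card {χ : Cfsg.IrrCharacter ↥(Matrix.symplecticGroup (Fin n) F) //
      (χ : ↥(Matrix.symplecticGroup (Fin n) F) → ℂ) 1 = (((Fintype.card F) ^ n - 1 : ℕ) : ℂ) / 2} = 2 ∧
    ∀ χ : Cfsg.IrrCharacter ↥(Matrix.symplecticGroup (Fin n) F),
      (χ : ↥(Matrix.symplecticGroup (Fin n) F) → ℂ) 1 ≠ 1 →
      (χ : ↥(Matrix.symplecticGroup (Fin n) F) → ℂ) 1 ≠ (((Fintype.card F) ^ n + 1 : ℕ) : ℂ) / 2 →
      (χ : ↥(Matrix.symplecticGroup (Fin n) F) → ℂ) 1 ≠ (((Fintype.card F) ^ n - 1 : ℕ) : ℂ) / 2 →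
      (((Fintype.card F) ^ n - 1 : ℕ) : ℝ) * (((Fintype.card F) ^ n - Fintype.card F : ℕ) : ℝ) /
        (2 * ((Fintype.card F : ℕ) + 1 : ℝ)) ≤
        ‖(χ : ↥(Matrix.symplecticGroup (Fin n) F) → ℂ) 1‖ := by
  classical
  have hchar : ringChar F ≠ 2 := by
    intro h
    have := FiniteField.even_card_of_char_two h
    rw [Nat.odd_iff] at hodd
    omega
  have h2 : (2 : F) ≠ 0 := Ring.two_ne_zero hchar
  obtain ⟨ν, hν⟩ := FiniteField.exists_nonsquare hchar
  have hν0 : ν ≠ 0 := fun h => hν (h ▸ IsSquare.zero)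
  have : Nontrivial (AddChar F ℂ) := by
    rw [← Fintype.one_lt_card_iff_nontrivial, AddChar.card_eq]
    exact Fintype.one_lt_card
  obtain ⟨ψ, hψ⟩ := exists_ne (1 : AddChar F ℂ)
  let i : Fin n := ⟨0, by omega⟩
  let j : Fin n := ⟨1, by omega⟩
  have hij : i ≠ j := by simp [i, j, Fin.ext_iff]
  obtain ⟨q, hq⟩ : ∃ q, q = Fintype.card F := ⟨_, rfl⟩
  rw [← hq] at hodd ⊢
  have hq3 : 3 ≤ q := by
    have h1 : 1 < q := hq ▸ Fintype.one_lt_card
    rcases hodd with ⟨k, rfl⟩
    omega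
  obtain ⟨M, hM⟩ : ∃ M, q ^ n = 2 * M + 1 := by
    obtain ⟨k, hk⟩ := (hodd.pow (n := n) : Odd (q ^ n))
    exact ⟨k, hk⟩
  have hplus : (((q ^ n + 1 : ℕ) : ℂ)) / 2 = ((M + 1 : ℕ) : ℂ) := by
    rw [hM]; push_cast; ring
  have hminus : (((q ^ n - 1 : ℕ) : ℂ)) / 2 = ((M : ℕ) : ℂ) := by
    rw [hM, Nat.add_sub_cancel]; push_cast; ring
  have hsmall : 2 * (q + 1) * (M + 1) < (q ^ n - 1) * (q ^ n - q) := by
    have h1 : q * q ≤ q ^ n := by rw [← sq]; exact Nat.pow_le_pow_right (by omega) hn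
    have h3 : 2 * q ≤ q ^ n - q := by
      have : 3 * q ≤ q * q := Nat.mul_le_mul_right q hq3
      omega
    have h4 : q + 1 ≤ q * 2 - 2 + 1 := by omega
    calc 2 * (q + 1) * (M + 1) < (q ^ n - 1) * (2 * q) := by
          rw [hM, Nat.add_sub_cancel]
          have h5 : 4 ≤ M := by
            have : 9 ≤ q * q := Nat.mul_le_mul hq3 hq3
            omega
          nlinarith
      _ ≤ _ := Nat.mul_le_mul_left _ h3
  have hMpos : 2 ≤ M := by
    have : 9 ≤ q * q := Nat.mul_le_mul hq3 hq3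
    have h1 : q * q ≤ q ^ n := by rw [← sq]; exact Nat.pow_le_pow_right (by omega) hn
    omega
  -- the models
  have hmodel : ∀ d : F, d ≠ 0 → ∃ (σE : Representation ℂ Sp (evenFn (F := F) (n := n)))
      (σO : Representation ℂ Sp (oddFn (F := F) (n := n))),
      (σE.IsIrreducible ∧ ∀ S φ a, ((σE (sRad S) φ).1 : Pt → ℂ) a = wchar ψ d a S * φ.1 a) ∧
      (σO.IsIrreducible ∧ ∀ S φ a, ((σO (sRad S) φ).1 : Pt → ℂ) a = wchar ψ d a S * φ.1 a) := by
    intro d hd
    let φ₀ := AddChar.mulShift ψ (2 * d)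
    have hφ₀ : φ₀ ≠ 1 := fun h => mul_ne_zero h2 hd
      ((mulShift_bijective hψ).1 (h.trans (AddChar.mulShift_zero ψ).symm))
    obtain ⟨σE, σO, ⟨hE, hE'⟩, hO, hO'⟩ := exists_models φ₀ hφ₀ hn h2
    have e : ∀ (a : Fin n → F) (S : symm F n), wchar φ₀ (2⁻¹ : F) a S = wchar ψ d a S := fun a S => by
      simp only [φ₀, wchar_apply, AddChar.mulShift_apply]
      congr 1
      field_simp
    exact ⟨σE, σO, ⟨hE, fun S φ a => by rw [hE', e]⟩, hO, fun S φ a => by rw [hO', e]⟩
  choose σE σO hσE hσO using hmodel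
  obtain ⟨hdimE, hdimO⟩ := finrank_parts (F := F) (n := n) h2
  rw [← hq, hM, Nat.add_sub_cancel] at hdimE hdimO
  have hdimE' : Module.finrank ℂ (evenFn (F := F) (n := n)) = M + 1 := by rw [hdimE]; omega
  have hdimO' : Module.finrank ℂ (oddFn (F := F) (n := n)) = M := by rw [hdimO]; omega
  let G := ↥(Matrix.symplecticGroup (Fin n) F)
  let D : Bool → F := fun b => bif b then ν else 1
  have hD : ∀ b, D b ≠ 0 := fun b => by cases b <;> simp [D, hν0]
  let mE : Bool → Cfsg.IrrCharacter G := fun b =>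
    ⟨(σE (D b) (hD b)).character, @Cfsg.Agent.Characters.isIrrCharacter_character _ _ _ _ _ _ _
      (hσE (D b) (hD b)).1⟩
  let mO : Bool → Cfsg.IrrCharacter G := fun b =>
    ⟨(σO (D b) (hD b)).character, @Cfsg.Agent.Characters.isIrrCharacter_character _ _ _ _ _ _ _
      (hσO (D b) (hD b)).1⟩
  have hmE1 : ∀ b, (mE b : G → ℂ) 1 = ((M + 1 : ℕ) : ℂ) := fun b => by
    show (σE (D b) (hD b)).character 1 = _
    rw [Representation.char_one, hdimE']
  have hmO1 : ∀ b, (mO b : G → ℂ) 1 = ((M : ℕ) : ℂ) := fun b => by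
    show (σO (D b) (hD b)).character 1 = _
    rw [Representation.char_one, hdimO']
  -- the models of one degree differ
  have hdist : ∀ {P : Submodule ℂ (Pt → ℂ)} (s₁ s₂ : Representation ℂ Sp P),
      (∀ S φ a, ((s₁ (sRad S) φ).1 : Pt → ℂ) a = wchar ψ ν a S * φ.1 a) →
      (∀ S φ a, ((s₂ (sRad S) φ).1 : Pt → ℂ) a = wchar ψ 1 a S * φ.1 a) →
      (∃ φ : P, ∃ a, a ≠ 0 ∧ φ.1 a ≠ 0) → s₁.character ≠ s₂.character := by
    intro P s₁ s₂ h₁ h₂ hex heq
    obtain ⟨φ, a, ha0, ha⟩ := hex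
    obtain ⟨e⟩ := Cfsg.Agent.Characters.nonempty_equiv_of_character_eq s₁ s₂ heq
    obtain ⟨χ, hχ⟩ : ∃ χ, (proj s₁ χ φ).1 a ≠ 0 := by
      by_contra hall
      push Not at hall
      apply ha
      have := congrArg (fun x : P => x.1 a) (sum_proj s₁ φ)
      simp only [AddSubmonoidClass.coe_finsetSum, Finset.sum_apply, hall, Finset.sum_const_zero] at this
      exact this.symm
    have hw := proj_mem s₁ χ φ
    have hχa : χ = wchar ψ ν a := DFunLike.ext _ _ fun S => by
      have h3 := congrFun (congrArg Subtype.val (hw S)) a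
      rw [h₁] at h3
      simp only [Submodule.coe_smul, Pi.smul_apply, smul_eq_mul] at h3
      exact (mul_right_cancel₀ hχ h3).symm
    let θ : P := e.toLinearEquiv (proj s₁ χ φ)
    have hθ : θ ≠ 0 := fun h => hχ (by
      rw [e.toLinearEquiv.map_eq_zero_iff.1 h]
      rfl)
    have hθw : ∀ S, s₂ (sRad S) θ = χ S • θ := fun S => by
      have h3 : e.toLinearEquiv (s₁ (sRad S) (proj s₁ χ φ)) = s₂ (sRad S) θ :=
        e.toIntertwiningMap.isIntertwining _ _ (sRad S) _
      rw [← h3, hw S, map_smul]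
    obtain ⟨b, hb⟩ := Function.ne_iff.1 fun h => hθ (Subtype.ext h)
    have hχb : χ = wchar ψ 1 b := DFunLike.ext _ _ fun S => by
      have h3 := congrFun (congrArg Subtype.val (hθw S)) b
      rw [h₂] at h3
      simp only [Submodule.coe_smul, Pi.smul_apply, smul_eq_mul] at h3
      exact (mul_right_cancel₀ hb h3).symm
    obtain ⟨k, hk⟩ := Function.ne_iff.1 ha0
    rw [Pi.zero_apply] at hk
    have h4 := (wchar_eq_iff hψ h2).1 (hχa.symm.trans hχb) k k
    refine hν ⟨b k / a k, ?_⟩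
    field_simp
    linear_combination h4
  have he0 : ∀ s : ℂ, (s = 1 ∨ s = -1) → ∃ φ : Pt → ℂ, (∀ a, φ (-a) = s * φ a) ∧
      ∃ a, a ≠ 0 ∧ φ a ≠ 0 := by
    intro s hs
    let e : Pt := Pi.single i 1
    have hee : e ≠ -e := fun h => h2 (by
      have := congrFun h i
      simp [e] at this
      linear_combination this)
    refine ⟨Pi.single e 1 + Pi.single (-e) s, fun a => ?_, e, ?_, ?_⟩
    · simp only [Pi.add_apply, Pi.single_apply, neg_eq_iff_eq_neg, neg_neg]
      rcases hs with rfl | rfl <;> split_ifs <;> ring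
    · intro h; exact one_ne_zero (α := F) (by simpa [e] using congrFun h i)
    · simp [hee]
  have hneE : mE true ≠ mE false := fun h => by
    obtain ⟨φ, hφ, hex⟩ := he0 1 (Or.inl rfl)
    exact hdist _ _ (hσE (D true) (hD true)).2 (hσE (D false) (hD false)).2
      ⟨⟨φ, fun a => by rw [hφ, one_mul]⟩, hex⟩ (congrArg Subtype.val h)
  have hneO : mO true ≠ mO false := fun h => by
    obtain ⟨φ, hφ, hex⟩ := he0 (-1) (Or.inr rfl)
    exact hdist _ _ (hσO (D true) (hD true)).2 (hσO (D false) (hD false)).2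
      ⟨⟨φ, fun a => by rw [hφ, neg_one_mul]⟩, hex⟩ (congrArg Subtype.val h)
  -- labels of the characters of small degree
  let T := {χ : Cfsg.IrrCharacter G //
    ∃ k : ℕ, (χ : G → ℂ) 1 = (k : ℂ) ∧ 2 ≤ k ∧ 2 * (q + 1) * k < (q ^ n - 1) * (q ^ n - q)}
  have hlabel : ∀ χ : T, ∃ b : Bool × Bool, ∃ (k : ℕ) (ρ : Representation ℂ Sp (Fin k → ℂ)),
      ρ.IsIrreducible ∧ ρ.character = (χ.1 : G → ℂ) ∧ RankOne ρ ψ ∧
        HasLabel ρ ψ i (D b.1) (bif b.2 then -1 else 1) := by
    rintro ⟨χ, k, hk, hk2, hksmall⟩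
    obtain ⟨k', ρ, hρ, hρχ⟩ := χ.2
    have hk' : k' = k := by
      have h1 := finrank_of_char ρ (k := k) (by rw [hρχ]; exact hk)
      simpa using h1
    subst hk'
    have hR : RankOne ρ ψ := rankOne_of_lt ρ hψ h2 (by simpa [← hq] using hksmall)
    obtain ⟨d, ε, hd, hε, hl⟩ :=
      exists_label (hρ := hρ) ρ h2 hR (exists_ne_one ρ hρ hk2) hν i
    refine ⟨(decide (d = ν), decide (ε = -1)), _, ρ, hρ, hρχ, hR, ?_⟩
    have e1 : D (decide (d = ν)) = d := by
      rcases hd with rfl | rfl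
      · have : (1 : F) ≠ ν := fun h => hν (h ▸ ⟨1, (mul_one 1).symm⟩)
        simp [D, this]
      · simp [D]
    have e2 : (bif decide (ε = -1) then (-1 : ℂ) else 1) = ε := by
      rcases hε with rfl | rfl
      · norm_num
      · simp
    rw [e1, e2]
    exact hl
  choose lab klab ρlab hirr hcharlab hRlab hL using hlabel
  have hlab_inj : Function.Injective lab := by
    intro x y h
    have h2' := hL y
    rw [← h] at h2'
    obtain ⟨e⟩ := equiv_of_label (hρi := hirr x) (hσi := hirr y) (ρlab x) (ρlab y) hψ h2 (hRlab x)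
      (hRlab y) hij (hD _) (hL x) h2'
    refine Subtype.ext (Subtype.ext ?_)
    rw [← hcharlab x, ← hcharlab y]
    exact Representation.char_iso e
  have : Finite T := Finite.of_injective lab hlab_inj
  have hcardT : Nat.card T ≤ 4 := by
    have := Nat.card_le_card_of_injective lab hlab_inj
    simpa [Nat.card_prod] using this
  let tE : Bool → T := fun b => ⟨mE b, M + 1, hmE1 b, by omega, hsmall⟩
  let tO : Bool → T := fun b => ⟨mO b, M, hmO1 b, hMpos,
    lt_of_le_of_lt (Nat.mul_le_mul_left _ (Nat.le_succ M)) hsmall⟩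
  let t : Bool ⊕ Bool → T := Sum.elim tE tO
  have htinj : Function.Injective t := by
    have hinjE : Function.Injective mE := by
      intro a b h; cases a <;> cases b <;> first | rfl | exact absurd h hneE | exact absurd h.symm hneE
    have hinjO : Function.Injective mO := by
      intro a b h; cases a <;> cases b <;> first | rfl | exact absurd h hneO | exact absurd h.symm hneO
    have hcross : ∀ a b, mE a ≠ mO b := fun a b h => by
      have h1 := congrArg (fun χ : Cfsg.IrrCharacter G => (χ : G → ℂ) 1) h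
      simp only [hmE1, hmO1, Nat.cast_inj] at h1
      omega
    rintro (a | a) (b | b) h
    · exact congrArg Sum.inl (hinjE (congrArg Subtype.val h))
    · exact absurd (congrArg Subtype.val h) (hcross a b)
    · exact absurd (congrArg Subtype.val h).symm (hcross b a)
    · exact congrArg Sum.inr (hinjO (congrArg Subtype.val h))
  have htsurj : Function.Surjective t := by
    have h1 := Nat.card_le_card_of_injective t htinj
    have h4 : Nat.card (Bool ⊕ Bool) = 4 := by simp [Nat.card_sum]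
    exact (Function.Injective.bijective_of_nat_card_le htinj (by omega)).2
  have hall : ∀ (χ : Cfsg.IrrCharacter G) (k : ℕ), (χ : G → ℂ) 1 = (k : ℂ) → 2 ≤ k →
      2 * (q + 1) * k < (q ^ n - 1) * (q ^ n - q) → (∃ b, χ = mE b) ∨ ∃ b, χ = mO b := by
    intro χ k h1 h3 h4
    obtain ⟨b | b, hb⟩ := htsurj ⟨χ, k, h1, h3, h4⟩
    · exact Or.inl ⟨b, (congrArg Subtype.val hb).symm⟩
    · exact Or.inr ⟨b, (congrArg Subtype.val hb).symm⟩
  refine ⟨?_, ?_, fun χ hne1 hneP hneM => ?_⟩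
  · rw [hplus]
    have hb : Function.Bijective (fun b : Bool => (⟨mE b, hmE1 b⟩ :
        {χ : Cfsg.IrrCharacter G // (χ : G → ℂ) 1 = ((M + 1 : ℕ) : ℂ)})) := by
      refine ⟨fun a b h => ?_, fun ⟨χ, hχ⟩ => ?_⟩
      · have h1 := congrArg Subtype.val h
        cases a <;> cases b <;> first | rfl | exact absurd h1 hneE | exact absurd h1.symm hneE
      · rcases hall χ (M + 1) hχ (by omega) hsmall with ⟨b, rfl⟩ | ⟨b, rfl⟩
        · exact ⟨b, rfl⟩
        · rw [hmO1, Nat.cast_inj] at hχ; omega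
    rw [← Nat.card_eq_of_bijective _ hb]
    simp
  · rw [hminus]
    have hb : Function.Bijective (fun b : Bool => (⟨mO b, hmO1 b⟩ :
        {χ : Cfsg.IrrCharacter G // (χ : G → ℂ) 1 = ((M : ℕ) : ℂ)})) := by
      refine ⟨fun a b h => ?_, fun ⟨χ, hχ⟩ => ?_⟩
      · have h1 := congrArg Subtype.val h
        cases a <;> cases b <;> first | rfl | exact absurd h1 hneO | exact absurd h1.symm hneO
      · rcases hall χ M hχ hMpos
          (lt_of_le_of_lt (Nat.mul_le_mul_left _ (Nat.le_succ M)) hsmall) with ⟨b, rfl⟩ | ⟨b, rfl⟩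
        · rw [hmE1, Nat.cast_inj] at hχ; omega
        · exact ⟨b, rfl⟩
    rw [← Nat.card_eq_of_bijective _ hb]
    simp
  · rw [hplus] at hneP
    rw [hminus] at hneM
    obtain ⟨k, hkpos, hk⟩ := Cfsg.Agent.Characters.irr_one_pos χ.2
    have hk2 : 2 ≤ k := by
      by_contra hlt
      have : k = 1 := by omega
      exact hne1 (by rw [hk, this, Nat.cast_one])
    have hbig : (q ^ n - 1) * (q ^ n - q) ≤ 2 * (q + 1) * k := by
      by_contra hlt
      rcases hall χ k hk hk2 (not_le.1 hlt) with ⟨b, rfl⟩ | ⟨b, rfl⟩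
      · exact hneP (hmE1 b)
      · exact hneM (hmO1 b)
    rw [hk, Complex.norm_natCast, div_le_iff₀ (by positivity)]
    calc (((q ^ n - 1 : ℕ) : ℝ)) * ((q ^ n - q : ℕ) : ℝ)
        = (((q ^ n - 1) * (q ^ n - q) : ℕ) : ℝ) := by push_cast; ring
      _ ≤ ((2 * (q + 1) * k : ℕ) : ℝ) := Nat.cast_le.2 hbig
      _ = _ := by push_cast; ring

end Cfsg.Agent.SimpleFacts.WeilChar
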